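import Groth.Agent.Calg4.MonoFactor.Main
import Groth.Agent.GitQuot.FppfSourceScheme
import Groth.Agent.AlgGrp1.Act
import Groth.Agent.Agf.Quot
import Groth.Agent.FlatMor2.Thickening

/-!
Quotients by flat stabilisers: orbit maps, kernels, graphs of actions.
-/

set_option autoImplicit false
set_option linter.style.haveILetI false
set_option backward.isDefEq.respectTransparency.types false

universe u

open CategoryTheory MonoidalCategory CartesianMonoidalCategory MonObj GrpObj AlgebraicGeometry
  CategoryTheory.Limits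

namespace Groth.Calg4.MonoFactor

variable {S : Scheme.{u}}

theorem isPullback_of_comp_mono {C : Type*} [Category C] {P X Y Z W : C} {a : P ⟶ X} {b : P ⟶ Y}
    {f : X ⟶ Z} {g : Y ⟶ Z} (i : Z ⟶ W) [Mono i] (h : IsPullback a b (f ≫ i) (g ≫ i)) :
    IsPullback a b f g := by
  have w : a ≫ f = b ≫ g := by
    rw [← cancel_mono i, Category.assoc, Category.assoc, h.w]
  refine ⟨⟨w⟩, ⟨PullbackCone.IsLimit.mk w (fun s => h.lift s.fst s.snd (by
    rw [← Category.assoc, s.condition, Category.assoc])) (fun s => h.lift_fst _ _ _)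
    (fun s => h.lift_snd _ _ _) fun s m h1 h2 => h.hom_ext (by rw [h.lift_fst, h1])
      (by rw [h.lift_snd, h2])⟩⟩

theorem lfp_left {A B : Over S} (f : A ⟶ B) [LocallyOfFinitePresentation A.hom]
    [LocallyOfFiniteType B.hom] : LocallyOfFinitePresentation f.left := by
  have : LocallyOfFinitePresentation (f.left ≫ B.hom) := by rw [Over.w]; infer_instance
  exact Groth.SpectralTopology.lfp_of_comp f.left B.hom

/-- Factorisation in schemes over a base, from a kernel pair with flat projection. -/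
theorem exists_over_factor {A B P : Over S} (f : A ⟶ B) [LocallyOfFinitePresentation A.hom]
    [LocallyOfFiniteType B.hom] {p₁ p₂ : P ⟶ A} (h : IsPullback p₁ p₂ f f) (hp : Flat p₁.left) :
    ∃ (Q : Over S) (p : A ⟶ Q) (i : Q ⟶ B), p ≫ i = f ∧ Surjective p.left ∧ Flat p.left ∧
      LocallyOfFinitePresentation p.left ∧ Mono i ∧ LocallyOfFinitePresentation Q.hom ∧
      IsPullback p₁ p₂ p p := by
  have := lfp_left f
  have h' : IsPullback p₁.left p₂.left f.left f.left := h.map (Over.forget S)
  have : Flat (pullback.fst f.left f.left) := by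
    rw [← h'.isoPullback_inv_fst]
    exact MorphismProperty.comp_mem @Flat _ _ inferInstance hp
  obtain ⟨X', g, j, hs, hf, hl, hm, hgj⟩ := exists_factorisation f.left
  let Q : Over S := Over.mk (j ≫ B.hom)
  let p : A ⟶ Q := Over.homMk g (by
    show g ≫ j ≫ B.hom = A.hom
    rw [← Category.assoc, hgj, Over.w])
  let i : Q ⟶ B := Over.homMk j rfl
  have hi : Mono i := by
    have : Mono ((Over.forget S).map i) := hm
    exact (Over.forget S).mono_of_mono_map this
  have hpi : p ≫ i = f := Over.OverMorphism.ext hgj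
  have hQ : LocallyOfFinitePresentation Q.hom := by
    have : LocallyOfFinitePresentation (g ≫ Q.hom) := by
      show LocallyOfFinitePresentation (g ≫ j ≫ B.hom)
      rw [← Category.assoc, hgj, Over.w]; infer_instance
    exact Groth.GitQuot.FppfSource.locallyOfFinitePresentation_of_fppf g Q.hom
  refine ⟨Q, p, i, hpi, hs, hf, hl, hi, hQ, isPullback_of_comp_mono i ?_⟩
  rw [hpi]
  exact h

/-- Maps into the source of a monomorphism over `S` descend along fppf covers. -/
theorem exists_over_desc {A A₁ A₂ B : Over S} (g₁ : A ⟶ A₁) (h₁ : A₁ ⟶ B) (g₂ : A ⟶ A₂) (h₂ : A₂ ⟶ B)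
    [Flat g₁.left] [Surjective g₁.left] [LocallyOfFinitePresentation g₁.left] [Mono h₂]
    (e : g₁ ≫ h₁ = g₂ ≫ h₂) : ∃ φ : A₁ ⟶ A₂, φ ≫ h₂ = h₁ := by
  have : Mono h₂.left := inferInstanceAs (Mono ((Over.forget S).map h₂))
  obtain ⟨φ, hφ⟩ := exists_desc g₁.left h₁.left g₂.left h₂.left (congrArg CommaMorphism.left e)
  refine ⟨Over.homMk φ ?_, Over.OverMorphism.ext hφ⟩
  rw [← Over.w h₂, ← Category.assoc, hφ, Over.w]

section Whisker

variable (P : MorphismProperty Scheme.{u}) [P.IsStableUnderBaseChange]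

theorem whiskerLeft_left_prop (G : Over S) {A B : Over S} {f : A ⟶ B} (hf : P f.left) :
    P (G ◁ f).left :=
  MorphismProperty.of_isPullback ((Groth.Agf.isPullback_whiskerLeft_snd G f).map (Over.forget S)).flip hf

theorem whiskerRight_left_prop (G : Over S) {A B : Over S} {f : A ⟶ B} (hf : P f.left) :
    P (f ▷ G).left := by
  have h : IsPullback (f ▷ G) (fst A G) (fst B G) f := by
    refine ⟨⟨by simp⟩, ⟨PullbackCone.IsLimit.mk (by simp)
      (fun s => lift s.snd (s.fst ≫ snd B G)) (fun s => ?_) (fun s => by simp) (fun s m h₁ h₂ => ?_)⟩⟩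
    · apply CartesianMonoidalCategory.hom_ext
      · simp [s.condition]
      · simp
    · apply CartesianMonoidalCategory.hom_ext
      · simp [← h₂]
      · simp [← h₁]
  exact MorphismProperty.of_isPullback (h.map (Over.forget S)).flip hf

theorem tensorHom_left_prop [P.IsStableUnderComposition] {A B A' B' : Over S} {f : A ⟶ B} {g : A' ⟶ B'}
    (hf : P f.left) (hg : P g.left) : P (f ⊗ₘ g).left := by
  rw [MonoidalCategory.tensorHom_def, Over.comp_left]
  exact P.comp_mem _ _ (whiskerRight_left_prop P A' hf) (whiskerLeft_left_prop P B hg)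

theorem fst_left_prop (G : Over S) {H : Over S} (hH : P H.hom) : P (fst G H).left :=
  MorphismProperty.of_isPullback (IsPullback.of_hasPullback G.hom H.hom).flip hH

theorem snd_left_prop {G : Over S} (H : Over S) (hG : P G.hom) : P (snd G H).left :=
  MorphismProperty.of_isPullback (IsPullback.of_hasPullback G.hom H.hom) hG

end Whisker

variable {G X : Over S} [GrpObj G]

theorem isPullback_orbit (a : AlgGrp.Action G X) (o : 𝟙_ (Over S) ⟶ X) {H : Over S} {i : H ⟶ G}
    {k : H ⟶ 𝟙_ (Over S)} (hH : IsPullback i k (a.orbitMap o) o) :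
    IsPullback (fst G H) ((G ◁ i) ≫ μ[G]) (a.orbitMap o) (a.orbitMap o) := by
  have hμ : (G ◁ i) ≫ μ[G] = fst G H * (snd G H ≫ i) := by
    rw [Hom.mul_def]; congr 1
  have hmono : Mono i := ⟨fun g h e => hH.hom_ext e (toUnit_unique _ _)⟩
  have w : fst G H ≫ a.orbitMap o = ((G ◁ i) ≫ μ[G]) ≫ a.orbitMap o := by
    rw [hμ, Groth.Agf.comp_orbitMap, Groth.Agf.comp_orbitMap, Groth.Agf.lift_mul_act,
      ← Groth.Agf.comp_orbitMap a (snd G H ≫ i), Category.assoc, hH.w,
      toUnit_unique k (toUnit H)]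
    simp
  refine ⟨⟨w⟩, ⟨PullbackCone.IsLimit.mk w (fun s => lift s.fst (hH.lift (s.fst⁻¹ * s.snd) (toUnit s.pt)
    ?_)) (fun s => by simp) ?_ ?_⟩⟩
  · rw [Groth.Agf.comp_orbitMap, Groth.Agf.lift_mul_act, ← Groth.Agf.comp_orbitMap a s.snd,
      ← s.condition, Groth.Agf.comp_orbitMap, ← Groth.Agf.lift_mul_act, inv_mul_cancel,
      Groth.Agf.lift_one_act]
  · intro s
    rw [hμ, MonObj.comp_mul]
    simp
  · intro s m h₁ h₂
    apply CartesianMonoidalCategory.hom_ext
    · simpa using h₁
    · rw [lift_snd, ← cancel_mono i, IsPullback.lift_fst, ← h₂, hμ, MonObj.comp_mul, h₁]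
      simp

theorem orbit_quotient [LocallyOfFinitePresentation G.hom] [LocallyOfFiniteType X.hom]
    (a : AlgGrp.Action G X) (ξ : 𝟙_ (Over S) ⟶ X) (hH : Flat (pullback (a.orbitMap ξ) ξ).hom) :
    ∃ (Q : Over S) (p : G ⟶ Q) (i : Q ⟶ X), p ≫ i = a.orbitMap ξ ∧
      Surjective p.left ∧ Flat p.left ∧ LocallyOfFinitePresentation p.left ∧ Mono i ∧
      LocallyOfFinitePresentation Q.hom ∧
      IsPullback ((G ◁ pullback.fst (a.orbitMap ξ) ξ) ≫ μ[G])
        (fst G (pullback (a.orbitMap ξ) ξ)) p p := by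
  obtain ⟨Q, p, i, h1, h2, h3, h4, h5, h6, h7⟩ := exists_over_factor (a.orbitMap ξ)
    (isPullback_orbit a ξ (IsPullback.of_hasPullback _ _)) (fst_left_prop @Flat G hH)
  exact ⟨Q, p, i, h1, h2, h3, h4, h5, h6, h7.flip⟩

theorem kernel_quotient {H : Over S} [GrpObj H] [LocallyOfFinitePresentation G.hom]
    [LocallyOfFiniteType H.hom] (u : G ⟶ H) [IsMonHom u] (hK : Flat (pullback u η[H]).hom) :
    ∃ (Q : Over S) (_ : GrpObj Q) (p : G ⟶ Q) (i : Q ⟶ H), IsMonHom p ∧ IsMonHom i ∧ p ≫ i = u ∧
      Surjective p.left ∧ Flat p.left ∧ LocallyOfFinitePresentation p.left ∧ Mono i ∧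
      LocallyOfFinitePresentation Q.hom ∧ AlgGrp.IsKernel (pullback.fst u η[H]) p := by
  let K := pullback u η[H]
  let k : K ⟶ G := pullback.fst u η[H]
  have hk : IsPullback k (toUnit K) u η[H] := by
    have := IsPullback.of_hasPullback u η[H]
    rwa [toUnit_unique (pullback.snd u η[H]) (toUnit K)] at this
  have hkone : k ≫ u = 1 := by rw [hk.w, Hom.one_def]
  have hμ : (G ◁ k) ≫ μ[G] = fst G K * (snd G K ≫ k) := by
    rw [Hom.mul_def]; congr 1
  have hsq : IsPullback (fst G K) ((G ◁ k) ≫ μ[G]) u u := by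
    have hm : Mono k := ⟨fun g h e => hk.hom_ext e (toUnit_unique _ _)⟩
    have w : fst G K ≫ u = ((G ◁ k) ≫ μ[G]) ≫ u := by
      rw [hμ, MonObj.mul_comp, Category.assoc, hkone, MonObj.comp_one, _root_.mul_one]
    refine ⟨⟨w⟩, ⟨PullbackCone.IsLimit.mk w (fun s => lift s.fst (hk.lift (s.fst⁻¹ * s.snd)
      (toUnit s.pt) ?_)) (fun s => by simp) ?_ ?_⟩⟩
    · rw [MonObj.mul_comp, GrpObj.inv_comp, s.condition, inv_mul_cancel, Hom.one_def]
    · intro s
      rw [hμ, MonObj.comp_mul]
      simp
    · intro s m h₁ h₂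
      apply CartesianMonoidalCategory.hom_ext
      · simpa using h₁
      · rw [lift_snd, ← cancel_mono k, IsPullback.lift_fst, ← h₂, hμ, MonObj.comp_mul, h₁]
        simp
  obtain ⟨Q, p, i, hpi, hs, hf, hl, hi, hQ, hsq'⟩ :=
    exists_over_factor u hsq (fst_left_prop @Flat G hK)
  have := tensorHom_left_prop @Flat (f := p) (g := p) hf hf
  have := tensorHom_left_prop @Surjective (f := p) (g := p) hs hs
  have := tensorHom_left_prop @LocallyOfFinitePresentation (f := p) (g := p) hl hl
  obtain ⟨m, hm⟩ := exists_over_desc (p ⊗ₘ p) ((i ⊗ₘ i) ≫ μ[H]) (μ[G] ≫ p) i (by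
    rw [← Category.assoc, tensorHom_comp_tensorHom, hpi, Category.assoc, hpi, IsMonHom.mul_hom])
  obtain ⟨iv, hiv⟩ := exists_over_desc p (i ≫ ι[H]) (ι[G] ≫ p) i (by
    rw [← Category.assoc, hpi, Category.assoc, hpi, GrpObj.inv_hom])
  have hone : (η[G] ≫ p) ≫ i = η[H] := by rw [Category.assoc, hpi, IsMonHom.one_hom]
  letI mon : MonObj Q :=
    { one := η[G] ≫ p
      mul := m
      one_mul := by
        rw [← cancel_mono i, Category.assoc, hm, ← Category.assoc, whiskerRight_comp_tensorHom,
          hone, MonoidalCategory.tensorHom_def', Category.assoc, MonObj.one_mul,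
          leftUnitor_naturality]
      mul_one := by
        rw [← cancel_mono i, Category.assoc, hm, ← Category.assoc, whiskerLeft_comp_tensorHom,
          hone, MonoidalCategory.tensorHom_def, Category.assoc, MonObj.mul_one,
          rightUnitor_naturality]
      mul_assoc := by
        rw [← cancel_mono i]
        simp only [Category.assoc, hm]
        rw [whiskerLeft_comp_tensorHom_assoc, whiskerRight_comp_tensorHom_assoc, hm]
        rw [← tensorHom_comp_whiskerRight_assoc, ← tensorHom_comp_whiskerLeft_assoc,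
          MonObj.mul_assoc, associator_naturality_assoc] }
  have hi1 : IsMonHom i := ⟨hone, hm⟩
  have hp1 : IsMonHom p := ⟨rfl, by
    rw [← cancel_mono i, Category.assoc, Category.assoc]
    show μ[G] ≫ p ≫ i = (p ⊗ₘ p) ≫ m ≫ i
    rw [hm, ← Category.assoc (p ⊗ₘ p),
      tensorHom_comp_tensorHom, hpi, IsMonHom.mul_hom]⟩
  letI grp : GrpObj Q :=
    { mon with
      inv := iv
      left_inv := by
        rw [← cancel_mono i, Category.assoc, IsMonHom.mul_hom, lift_map_assoc, hiv, Category.id_comp]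
        rw [show lift (i ≫ ι[H]) i = i ≫ lift ι[H] (𝟙 H) by simp [comp_lift], Category.assoc,
          GrpObj.left_inv, Category.assoc, IsMonHom.one_hom, comp_toUnit_assoc]
      right_inv := by
        rw [← cancel_mono i, Category.assoc, IsMonHom.mul_hom, lift_map_assoc, hiv, Category.id_comp]
        rw [show lift i (i ≫ ι[H]) = i ≫ lift (𝟙 H) ι[H] by simp [comp_lift], Category.assoc,
          GrpObj.right_inv, Category.assoc, IsMonHom.one_hom, comp_toUnit_assoc] }
  refine ⟨Q, grp, p, i, hp1, hi1, hpi, hs, hf, hl, hi, hQ, ?_⟩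
  refine isPullback_of_comp_mono i ?_
  rw [hpi, IsMonHom.one_hom]
  exact hk

variable (a : AlgGrp.Action G X)

/-- The graph of the action. -/
noncomputable abbrev graph : G ⊗ X ⟶ X ⊗ X := lift a.act (snd G X)

theorem isPullback_graph {F : Over S} {φ : F ⟶ G ⊗ X} {π : F ⟶ X}
    (hF : IsPullback φ π (graph a) (lift (𝟙 X) (𝟙 X))) :
    IsPullback (G ◁ π) (lift (fst G F * (snd G F ≫ φ ≫ fst G X)) (snd G F ≫ π)) (graph a) (graph a) := by
  have h1 : φ ≫ snd G X = π := by
    simpa using congrArg (fun t => t ≫ snd X X) hF.w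
  have h2 : lift (φ ≫ fst G X) π ≫ a.act = π := by
    have : lift (φ ≫ fst G X) π = φ := by
      rw [← h1]; apply CartesianMonoidalCategory.hom_ext <;> simp
    rw [this]
    simpa using congrArg (fun t => t ≫ fst X X) hF.w
  have hmono : ∀ {T : Over S} (x y : T ⟶ F), x ≫ φ ≫ fst G X = y ≫ φ ≫ fst G X → x ≫ π = y ≫ π →
      x = y := by
    intro T x y hxy hπ
    refine hF.hom_ext (CartesianMonoidalCategory.hom_ext _ _ (by simpa using hxy) ?_) hπ
    rw [Category.assoc, Category.assoc, h1]
    exact hπ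
  have w : (G ◁ π) ≫ graph a =
      lift (fst G F * (snd G F ≫ φ ≫ fst G X)) (snd G F ≫ π) ≫ graph a := by
    apply CartesianMonoidalCategory.hom_ext
    · simp only [Category.assoc, lift_fst]
      rw [Groth.Agf.lift_mul_act]
      congr 1
      rw [← comp_lift_assoc, h2]
      apply CartesianMonoidalCategory.hom_ext <;> simp
    · simp
  refine ⟨⟨w⟩, ⟨PullbackCone.IsLimit.mk w
    (fun s => lift (s.fst ≫ fst G X) (hF.lift
      (lift ((s.fst ≫ fst G X)⁻¹ * (s.snd ≫ fst G X)) (s.fst ≫ snd G X)) (s.fst ≫ snd G X) ?_))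
    (fun s => ?_) (fun s => ?_) ?_⟩⟩
  · have hc1 : s.fst ≫ snd G X = s.snd ≫ snd G X := by
      simpa using congrArg (fun t => t ≫ snd X X) s.condition
    have hc2 : s.fst ≫ a.act = s.snd ≫ a.act := by
      simpa using congrArg (fun t => t ≫ fst X X) s.condition
    apply CartesianMonoidalCategory.hom_ext
    · simp only [Category.assoc, lift_fst, Category.comp_id]
      rw [Groth.Agf.lift_mul_act]
      conv_lhs => arg 1; arg 2; rw [hc1, ← comp_lift_assoc, lift_fst_snd, Category.id_comp, ← hc2,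
        show s.fst ≫ a.act = lift (s.fst ≫ fst G X) (s.fst ≫ snd G X) ≫ a.act by
          rw [← comp_lift_assoc, lift_fst_snd, Category.id_comp]]
      rw [Groth.AlgGrp1.inv_act_cancel]
    · simp
  · apply CartesianMonoidalCategory.hom_ext
    · simp
    · simp [IsPullback.lift_snd]
  · have hc1 : s.fst ≫ snd G X = s.snd ≫ snd G X := by
      simpa using congrArg (fun t => t ≫ snd X X) s.condition
    apply CartesianMonoidalCategory.hom_ext
    · simp only [Category.assoc, lift_fst, MonObj.comp_mul, lift_snd_assoc,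
        hF.lift_fst_assoc, mul_inv_cancel_left]
    · simp only [Category.assoc, lift_snd, lift_snd_assoc, hF.lift_snd, hc1]
  · intro s m e₁ e₂
    have e1 : m ≫ fst G F = s.fst ≫ fst G X := by
      have := congrArg (fun t => t ≫ fst G X) e₁
      simpa using this
    have e3 : m ≫ snd G F ≫ π = s.fst ≫ snd G X := by
      have := congrArg (fun t => t ≫ snd G X) e₁
      simpa using this
    have e4 : (m ≫ fst G F) * (m ≫ snd G F ≫ φ ≫ fst G X) = s.snd ≫ fst G X := by
      have := congrArg (fun t => t ≫ fst G X) e₂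
      simpa [MonObj.comp_mul] using this
    apply CartesianMonoidalCategory.hom_ext
    · rw [lift_fst, e1]
    · rw [lift_snd]
      refine hmono _ _ ?_ ?_
      · rw [Category.assoc, hF.lift_fst_assoc, lift_fst, ← e4, e1, inv_mul_cancel_left]
      · rw [Category.assoc, hF.lift_snd, e3]

theorem flat_fst_graph_iff [LocallyOfFinitePresentation G.hom] [LocallyOfFiniteType X.hom] :
    ((∃ (Y : Over S) (ψ : G ⊗ X ⟶ Y) (τ : Y ⟶ X ⊗ X), ψ ≫ τ = graph a ∧
        Surjective ψ.left ∧ Flat ψ.left ∧ LocallyOfFinitePresentation ψ.left ∧ Mono τ) ↔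
      Flat (pullback.snd (graph a) (lift (𝟙 X) (𝟙 X))).left) := by
  constructor
  · rintro ⟨Y, ψ, τ, h, h1, h2, h3, h4⟩
    have : Mono τ.left := inferInstanceAs (Mono ((Over.forget S).map τ))
    have hflat : Flat (pullback.fst (graph a).left (graph a).left) := by
      have hh := IsPullback.of_isLimit (pullbackIsPullbackOfCompMono ψ.left ψ.left τ.left)
      rw [← h, Over.comp_left, ← hh.isoPullback_inv_fst]
      exact MorphismProperty.comp_mem @Flat _ _ inferInstance
        (inferInstance : Flat (pullback.fst ψ.left ψ.left))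
    let s : X ⟶ G ⊗ X := lift 1 (𝟙 X)
    have hs : s ≫ graph a = lift (𝟙 X) (𝟙 X) := by
      apply CartesianMonoidalCategory.hom_ext
      · simp only [Category.assoc, lift_fst, s, Groth.Agf.lift_one_act]
      · simp [s]
    have hd := flat_snd (graph a).left s.left
    rw [← Over.comp_left, hs] at hd
    have hp := (IsPullback.of_hasPullback (graph a) (lift (𝟙 X) (𝟙 X))).map (Over.forget S)
    have he : (pullback.snd (graph a) (lift (𝟙 X) (𝟙 X))).left =
        hp.isoPullback.hom ≫ pullback.snd _ _ := hp.isoPullback_hom_snd.symm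
    rw [he]
    exact MorphismProperty.comp_mem @Flat _ _ inferInstance hd
  · intro hflat
    have h1 : LocallyOfFinitePresentation (graph a).left := by
      have e : (graph a).left ≫ (snd X X).left = (snd G X).left := by
        rw [← Over.comp_left, lift_snd]
      have : LocallyOfFinitePresentation ((graph a).left ≫ (snd X X).left) := by
        rw [e]; exact snd_left_prop @LocallyOfFinitePresentation X inferInstance
      have : LocallyOfFiniteType (snd X X).left := snd_left_prop @LocallyOfFiniteType X inferInstance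
      exact Groth.SpectralTopology.lfp_of_comp (graph a).left (snd X X).left
    have hp : IsPullback _ _ (graph a).left (graph a).left :=
      (isPullback_graph a (IsPullback.of_hasPullback _ _)).map (Over.forget S)
    have hfl : Flat (G ◁ pullback.snd (graph a) (lift (𝟙 X) (𝟙 X))).left :=
      whiskerLeft_left_prop @Flat G hflat
    have : Flat (pullback.fst (graph a).left (graph a).left) := by
      rw [← hp.isoPullback_inv_fst]
      exact MorphismProperty.comp_mem @Flat _ _ inferInstance hfl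
    obtain ⟨Y', g, j, hs, hf, hl, hm, hgj⟩ := exists_factorisation (graph a).left
    let τ : Over.mk (j ≫ (X ⊗ X).hom) ⟶ X ⊗ X := Over.homMk j rfl
    let ψ : G ⊗ X ⟶ Over.mk (j ≫ (X ⊗ X).hom) := Over.homMk g (by
      show g ≫ j ≫ (X ⊗ X).hom = (G ⊗ X).hom
      rw [← Category.assoc, hgj, Over.w])
    refine ⟨_, ψ, τ, Over.OverMorphism.ext hgj, hs, hf, hl, ?_⟩
    · have : Mono ((Over.forget S).map τ) := hm
      exact (Over.forget S).mono_of_mono_map this

theorem graph_projection_props [IsNoetherian S] [Flat G.hom] [LocallyOfFiniteType G.hom]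
    [QuasiCompact G.hom] [LocallyOfFiniteType X.hom] {Y : Over S}
    (ψ : G ⊗ X ⟶ Y) (τ : Y ⟶ X ⊗ X) (h : ψ ≫ τ = graph a) [Surjective ψ.left] [Flat ψ.left]
    [LocallyOfFinitePresentation ψ.left] (r : X ⊗ X ⟶ X) (e : G ⊗ X ≅ G ⊗ X)
    (hr : graph a ≫ r = e.hom ≫ snd G X) :
    Surjective (τ ≫ r).left ∧ Flat (τ ≫ r).left ∧ LocallyOfFinitePresentation (τ ≫ r).left ∧
      QuasiCompact (τ ≫ r).left ∧ QuasiSeparated (τ ≫ r).left := by
  have : IsLocallyNoetherian X.left := LocallyOfFiniteType.isLocallyNoetherian X.hom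
  have : LocallyOfFinitePresentation G.hom := inferInstance
  have hc : ψ.left ≫ (τ ≫ r).left = e.hom.left ≫ (snd G X).left := by
    rw [← Over.comp_left, ← Category.assoc, h, hr, Over.comp_left]
  have : IsIso e.hom.left := inferInstanceAs (IsIso ((Over.forget S).map e.hom))
  have hsurj : Surjective G.hom := ⟨fun s => ⟨(η[G] : 𝟙_ (Over S) ⟶ G).left s, by
    rw [← Scheme.Hom.comp_apply, Over.w]; rfl⟩⟩
  have : Surjective (snd G X).left := snd_left_prop @Surjective X hsurj
  have : Flat (snd G X).left := snd_left_prop @Flat X inferInstance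
  have : QuasiCompact (snd G X).left := snd_left_prop @QuasiCompact X inferInstance
  have : LocallyOfFinitePresentation (snd G X).left :=
    snd_left_prop @LocallyOfFinitePresentation X inferInstance
  have : Flat (ψ.left ≫ (τ ≫ r).left) := by rw [hc]; infer_instance
  have : Surjective (ψ.left ≫ (τ ≫ r).left) := by rw [hc]; infer_instance
  have : QuasiCompact (ψ.left ≫ (τ ≫ r).left) := by rw [hc]; infer_instance
  have : LocallyOfFinitePresentation (ψ.left ≫ (τ ≫ r).left) := by rw [hc]; infer_instance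
  have hlfp := Groth.GitQuot.FppfSource.locallyOfFinitePresentation_of_fppf ψ.left (τ ≫ r).left
  refine ⟨Surjective.of_comp ψ.left _, Groth.FlatMor2.flat_of_comp_surjective ψ.left _, hlfp,
    Groth.FlatMor2.quasiCompact_of_comp_surjective ψ.left _, ?_⟩
  have : IsLocallyNoetherian Y.left := LocallyOfFiniteType.isLocallyNoetherian (τ ≫ r).left
  infer_instance

theorem graph_quotient [IsNoetherian S] [Flat G.hom] [LocallyOfFiniteType G.hom] [QuasiCompact G.hom]
    [LocallyOfFiniteType X.hom] (Y : Over S) (ψ : G ⊗ X ⟶ Y) (τ : Y ⟶ X ⊗ X) (h : ψ ≫ τ = graph a)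
    (h1 : Surjective ψ.left) (h2 : Flat ψ.left) (h3 : LocallyOfFinitePresentation ψ.left) :
      (Surjective (τ ≫ fst X X).left ∧ Flat (τ ≫ fst X X).left ∧ LocallyOfFinitePresentation (τ ≫ fst X X).left ∧
        QuasiCompact (τ ≫ fst X X).left ∧ QuasiSeparated (τ ≫ fst X X).left ∧
       Surjective (τ ≫ snd X X).left ∧ Flat (τ ≫ snd X X).left ∧ LocallyOfFinitePresentation (τ ≫ snd X X).left ∧
        QuasiCompact (τ ≫ snd X X).left ∧ QuasiSeparated (τ ≫ snd X X).left) := by
  obtain ⟨a1, a2, a3, a4, a5⟩ := graph_projection_props a ψ τ h (fst X X) (Groth.AlgGrp1.shear a)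
    (by simp [Groth.AlgGrp1.shear])
  obtain ⟨b1, b2, b3, b4, b5⟩ := graph_projection_props a ψ τ h (snd X X) (Iso.refl _) (by simp)
  exact ⟨a1, a2, a3, a4, a5, b1, b2, b3, b4, b5⟩

end Groth.Calg4.MonoFactor
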