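import Mathlib

/-!
A finite algebra whose self tensor product is flat over one factor is faithfully flat and locally
free over its image.
-/

set_option autoImplicit false
set_option linter.style.haveILetI false
set_option backward.isDefEq.respectTransparency.types false

universe u

open TensorProduct

namespace Groth.Calg4.MonoFactor

variable {B A : Type u} [CommRing B] [CommRing A] [Algebra B A]

/-- Over a local ring: generators with linearly independent relations up to the kernel. -/
theorem exists_basis_over_image [IsLocalRing B] [Module.Finite B A] [Module.Flat A (A ⊗[B] A)]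
    [Module.FinitePresentation A (A ⊗[B] A)] :
    ∃ (d : ℕ) (a : Fin d → A), (∀ x, ∃ b : Fin d → B, ∑ i, algebraMap B A (b i) * a i = x) ∧
      ∀ b : Fin d → B, ∑ i, algebraMap B A (b i) * a i = 0 → ∀ i, algebraMap B A (b i) = 0 := by
  classical
  let κ := IsLocalRing.ResidueField B
  let d := Module.finrank κ (κ ⊗[B] A)
  let bas : Module.Basis (Fin d) κ (κ ⊗[B] A) := Module.finBasis κ _
  choose a ha using fun i : Fin d =>
    TensorProduct.mk_surjective B A κ IsLocalRing.residue_surjective (bas i)
  have hgen : Submodule.span B (Set.range a) = ⊤ := by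
    refine IsLocalRing.span_eq_top_of_tmul_eq_basis a bas fun i => ?_
    exact ha i
  have hspan : ∀ x, ∃ b : Fin d → B, ∑ i, algebraMap B A (b i) * a i = x := by
    intro x
    obtain ⟨b, hb⟩ := (Submodule.mem_span_range_iff_exists_fun B).mp
      (hgen.ge (Submodule.mem_top (x := x)))
    exact ⟨b, by simpa only [Algebra.smul_def] using hb⟩
  -- the presentation of `A ⊗ A`
  let M := A ⊗[B] A
  let π : (Fin d → A) →ₗ[A] M := Fintype.linearCombination A fun i => (1 : A) ⊗ₜ[B] a i
  have hπ : Function.Surjective π := by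
    intro z
    induction z using TensorProduct.induction_on with
    | zero => exact ⟨0, map_zero π⟩
    | tmul x y =>
      obtain ⟨b, rfl⟩ := hspan y
      refine ⟨fun i => x * algebraMap B A (b i), ?_⟩
      rw [Fintype.linearCombination_apply, TensorProduct.tmul_sum]
      refine Finset.sum_congr rfl fun i _ => ?_
      rw [TensorProduct.smul_tmul', smul_eq_mul, mul_one, mul_comm x, ← Algebra.smul_def,
        ← Algebra.smul_def, TensorProduct.smul_tmul]
    | add x y hx hy =>
      obtain ⟨u, rfl⟩ := hx
      obtain ⟨v, rfl⟩ := hy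
      exact ⟨u + v, map_add π u v⟩
  have : Module.Projective A M := Module.Flat.projective_of_finitePresentation
  obtain ⟨s, hs⟩ := Module.projective_lifting_property π LinearMap.id hπ
  have hs' : ∀ z, π (s z) = z := fun z => congr($hs z)
  let pr : (Fin d → A) →ₗ[A] LinearMap.ker π :=
    LinearMap.codRestrict _ (LinearMap.id - s.comp π) fun k => by
      simp [LinearMap.mem_ker, hs']
  have hpr : ∀ k : LinearMap.ker π, pr k = k := fun k => by
    ext1
    show (k : Fin d → A) - s (π k) = k
    rw [LinearMap.mem_ker.mp k.2, map_zero, sub_zero]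
  have hfg : Module.Finite A (LinearMap.ker π) := Module.Finite.of_surjective pr fun k => ⟨k, hpr k⟩
  -- all relations lie in `q`
  have hq : ∀ (q : Ideal A) [q.IsMaximal] (k : Fin d → A), π k = 0 → ∀ j, k j ∈ q := by
    intro q _ k hk j
    have hqm : (q.comap (algebraMap B A)) = IsLocalRing.maximalIdeal B := by
      have : Algebra.IsIntegral B A := Algebra.IsIntegral.of_finite B A
      exact IsLocalRing.eq_maximalIdeal (Ideal.isMaximal_comap_of_isIntegral_of_isMaximal q)
    let ρ : κ →ₐ[B] A ⧸ q := Ideal.Quotient.liftₐ _ (Algebra.ofId B (A ⧸ q)) fun z hz => by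
      show algebraMap B (A ⧸ q) z = 0
      rw [IsScalarTower.algebraMap_apply B A (A ⧸ q)]
      exact Ideal.Quotient.eq_zero_iff_mem.mpr (show z ∈ q.comap (algebraMap B A) from hqm ▸ hz)
    let ej : A →ₗ[B] κ := ((bas.coord j).restrictScalars B).comp (TensorProduct.mk B κ A 1)
    have hej : ∀ i, ej (a i) = if i = j then 1 else 0 := fun i => by
      show bas.coord j ((1 : κ) ⊗ₜ[B] a i) = _
      rw [show (1 : κ) ⊗ₜ[B] a i = bas i from ha i, Module.Basis.coord_apply, Module.Basis.repr_self,
        Finsupp.single_apply]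
    let Φ : M →ₗ[B] A ⧸ q := TensorProduct.lift
      ((LinearMap.mul B (A ⧸ q)).compl₁₂ (Ideal.Quotient.mkₐ B q).toLinearMap (ρ.toLinearMap.comp ej))
    have : Φ (π k) = Ideal.Quotient.mk q (k j) := by
      rw [Fintype.linearCombination_apply, map_sum, Finset.sum_eq_single j]
      · rw [TensorProduct.smul_tmul', smul_eq_mul, mul_one]
        show Ideal.Quotient.mk q (k j) * ρ (ej (a j)) = _
        rw [hej, if_pos rfl, map_one, mul_one]
      · intro i _ hij
        rw [TensorProduct.smul_tmul', smul_eq_mul, mul_one]
        show Ideal.Quotient.mk q (k i) * ρ (ej (a i)) = 0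
        rw [hej, if_neg hij, map_zero, mul_zero]
      · simp
    rw [hk, map_zero] at this
    exact Ideal.Quotient.eq_zero_iff_mem.mp this.symm
  have hker : LinearMap.ker π = ⊥ := by
    by_contra hne
    have hne' : Module.annihilator A (LinearMap.ker π) ≠ ⊤ := by
      intro h
      refine hne ((Submodule.eq_bot_iff _).mpr fun k hk => ?_)
      have := Module.mem_annihilator.mp ((Ideal.eq_top_iff_one _).mp h) ⟨k, hk⟩
      rw [one_smul] at this
      exact congrArg Subtype.val this
    obtain ⟨q, hq', hqle⟩ := Ideal.exists_le_maximal _ hne'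
    have hle : (⊤ : Submodule A (LinearMap.ker π)) ≤ q • ⊤ := by
      intro k _
      rw [← hpr k]
      have : (k : Fin d → A) = ∑ i, (k : Fin d → A) i • (Pi.single i (1 : A)) := by
        ext l; simp [Finset.sum_apply, Pi.single_apply]
      rw [this, map_sum]
      exact Submodule.sum_mem _ fun i _ => by
        rw [map_smul]
        exact Submodule.smul_mem_smul (hq q k (LinearMap.mem_ker.mp k.2) i) trivial
    obtain ⟨r, hr, hr0⟩ := Submodule.exists_sub_one_mem_and_smul_eq_zero_of_fg_of_le_smul q ⊤
      Module.Finite.fg_top hle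
    have hrann : r ∈ Module.annihilator A (LinearMap.ker π) :=
      Module.mem_annihilator.mpr fun k => hr0 k trivial
    exact hq'.ne_top ((Ideal.eq_top_iff_one q).mpr (by
      simpa using q.sub_mem (hqle hrann) hr))
  refine ⟨d, a, hspan, fun b hb i => ?_⟩
  have h0 : (fun i => algebraMap B A (b i)) ∈ LinearMap.ker π := by
    rw [LinearMap.mem_ker, Fintype.linearCombination_apply]
    have : ∀ i, algebraMap B A (b i) • ((1 : A) ⊗ₜ[B] a i) =
        (1 : A) ⊗ₜ[B] (algebraMap B A (b i) * a i) := fun i => by
      rw [algebraMap_smul, ← TensorProduct.tmul_smul, Algebra.smul_def]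
    rw [Finset.sum_congr rfl fun i _ => this i, ← TensorProduct.tmul_sum, hb, TensorProduct.tmul_zero]
  rw [hker, Submodule.mem_bot] at h0
  exact congrFun h0 i

variable (B A) in
/-- A finite algebra with flat self tensor product is flat over the image of the base. -/
theorem flat_over_image [Module.Finite B A] [Module.Flat A (A ⊗[B] A)]
    [Module.FinitePresentation A (A ⊗[B] A)] (C : Type u) [CommRing C] [Algebra B C] [Algebra C A]
    [IsScalarTower B C A] (hBC : Function.Surjective (algebraMap B C))
    (hCA : Function.Injective (algebraMap C A)) : Module.Flat C A := by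
  classical
  let Bp (P : Ideal C) [P.IsMaximal] := Localization.AtPrime (P.comap (algebraMap B C))
  letI alg (P : Ideal C) [P.IsMaximal] : Algebra A (Bp P ⊗[B] A) :=
    Algebra.TensorProduct.rightAlgebra
  letI algC (P : Ideal C) [P.IsMaximal] : Algebra C (Bp P ⊗[B] A) :=
    ((algebraMap A (Bp P ⊗[B] A)).comp (algebraMap C A)).toAlgebra
  have tow (P : Ideal C) [P.IsMaximal] : IsScalarTower C A (Bp P ⊗[B] A) :=
    IsScalarTower.of_algebraMap_eq' rfl
  have tow₁ (P : Ideal C) [P.IsMaximal] : IsScalarTower B C (Bp P ⊗[B] A) :=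
    IsScalarTower.of_algebraMap_eq fun b => by
      show _ = algebraMap A (Bp P ⊗[B] A) (algebraMap C A (algebraMap B C b))
      rw [← IsScalarTower.algebraMap_apply B C A, ← IsScalarTower.algebraMap_apply B A]
  let f (P : Ideal C) [P.IsMaximal] : A →ₗ[C] Bp P ⊗[B] A :=
    (IsScalarTower.toAlgHom C A (Bp P ⊗[B] A)).toLinearMap
  have hf (P : Ideal C) [P.IsMaximal] : IsLocalizedModule.AtPrime P (f P) := by
    let p := P.comap (algebraMap B C)
    have h := (inferInstance : IsLocalizedModule p.primeCompl (TensorProduct.mk B (Bp P) A 1))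
    have hfe : ∀ x, f P x = (1 : Bp P) ⊗ₜ[B] x := fun _ => rfl
    refine ⟨fun c => ?_, fun y => ?_, fun {x y} e => ?_⟩
    · obtain ⟨b, hb⟩ := hBC c
      have := h.map_units ⟨b, show algebraMap B C b ∉ P from hb ▸ c.2⟩
      rw [Module.End.isUnit_iff] at this ⊢
      refine Eq.mp (congrArg Function.Bijective (funext fun z => ?_)) this
      show b • z = (c : C) • z
      rw [← hb]
      exact (algebraMap_smul C b z).symm
    · obtain ⟨⟨x, s⟩, hx⟩ := h.surj y
      refine ⟨⟨x, ⟨algebraMap B C s, s.2⟩⟩, ?_⟩
      exact (algebraMap_smul C (s : B) y).trans hx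
    · obtain ⟨s, hs⟩ := h.exists_of_eq (x₁ := x) (x₂ := y) e
      refine ⟨⟨algebraMap B C s, s.2⟩, ?_⟩
      exact (algebraMap_smul C (s : B) x).trans (hs.trans (algebraMap_smul C (s : B) y).symm)
  refine @Module.flat_of_isLocalized_maximal C C _ _ _ A _ _ _ _ (fun P _ => Bp P ⊗[B] A)
    (fun P _ => inferInstance) (fun P _ => (algC P).toModule) (fun P _ => (algC P).toModule)
    (fun P _ => IsScalarTower.left C) f hf fun P _ => ?_
  let p := P.comap (algebraMap B C)
  let Ap := Bp P ⊗[B] A
  -- hypotheses over the local ring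
  have : IsScalarTower B A Ap := IsScalarTower.of_algebraMap_eq fun b => by
    show algebraMap B (Bp P) b ⊗ₜ[B] (1 : A) = (1 : Bp P) ⊗ₜ[B] algebraMap B A b
    rw [Algebra.algebraMap_eq_smul_one, TensorProduct.smul_tmul, Algebra.algebraMap_eq_smul_one]
  let e₁ : Ap ⊗[Bp P] Ap ≃ₗ[Ap] Ap ⊗[B] A :=
    AlgebraTensorModule.cancelBaseChange B (Bp P) Ap Ap A
  let e₂ : Ap ⊗[A] (A ⊗[B] A) ≃ₗ[Ap] Ap ⊗[B] A :=
    AlgebraTensorModule.cancelBaseChange B A Ap Ap A
  have : Module.Flat Ap (Ap ⊗[Bp P] Ap) :=
    Module.Flat.of_linearEquiv (e₁.trans e₂.symm)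
  have : Module.FinitePresentation Ap (Ap ⊗[Bp P] Ap) :=
    Module.FinitePresentation.of_equiv (R := Ap) (M := Ap ⊗[A] (A ⊗[B] A)) (N := Ap ⊗[Bp P] Ap)
      (e₂.trans e₁.symm)
  obtain ⟨d, a, hspan, hrel⟩ := exists_basis_over_image (B := Bp P) (A := Ap)
  -- the local ring of the image
  let R := Bp P ⊗[B] C
  letI : Algebra C R := Algebra.TensorProduct.rightAlgebra
  have : Module.Flat C R :=
    Module.Flat.of_linearEquiv (Algebra.TensorProduct.commRight B C (Bp P)).toLinearEquiv.symm
  let j : R →ₐ[Bp P] Ap := Algebra.TensorProduct.map (AlgHom.id (Bp P) (Bp P))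
    (IsScalarTower.toAlgHom B C A)
  have hj : Function.Injective j :=
    Module.Flat.lTensor_preserves_injective_linearMap (IsScalarTower.toAlgHom B C A).toLinearMap hCA
  have hR : Function.Surjective (algebraMap (Bp P) R) := by
    intro z
    induction z using TensorProduct.induction_on with
    | zero => exact ⟨0, map_zero _⟩
    | tmul x c =>
      obtain ⟨b, rfl⟩ := hBC c
      refine ⟨b • x, ?_⟩
      show (b • x) ⊗ₜ[B] (1 : C) = x ⊗ₜ[B] algebraMap B C b
      rw [TensorProduct.smul_tmul, Algebra.algebraMap_eq_smul_one]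
    | add x y hx hy =>
      obtain ⟨u, rfl⟩ := hx
      obtain ⟨v, rfl⟩ := hy
      exact ⟨u + v, map_add _ _ _⟩
  have hjC : ∀ c : C, j (algebraMap C R c) = algebraMap C Ap c := fun c => rfl
  let Φ : (Fin d → R) →ₗ[C] Ap :=
    { toFun := fun y => ∑ i, j (y i) * a i
      map_add' := fun y z => by simp [add_mul, Finset.sum_add_distrib]
      map_smul' := fun c y => by
        rw [RingHom.id_apply, Finset.smul_sum]
        refine Finset.sum_congr rfl fun i _ => ?_
        rw [Pi.smul_apply, Algebra.smul_def, Algebra.smul_def, map_mul, hjC, mul_assoc] }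
  have hΦ : Function.Bijective Φ := by
    constructor
    · rw [← LinearMap.ker_eq_bot]
      refine (Submodule.eq_bot_iff _).mpr fun y hy => funext fun i => hj ?_
      choose b hb using fun i => hR (y i)
      have := hrel b (by
        rw [← LinearMap.mem_ker.mp hy]
        refine Finset.sum_congr rfl fun i _ => ?_
        rw [← hb, AlgHom.commutes]) i
      rw [← hb, AlgHom.commutes, this, Pi.zero_apply, map_zero]
    · intro x
      obtain ⟨b, hb⟩ := hspan x
      refine ⟨fun i => algebraMap (Bp P) R (b i), ?_⟩
      show ∑ i, j (algebraMap (Bp P) R (b i)) * a i = x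
      simpa only [AlgHom.commutes] using hb
  have : Module.Flat R (Fin d → R) := Module.Flat.of_free
  have : Module.Flat C (Fin d → R) := Module.Flat.trans C R (Fin d → R)
  exact Module.Flat.of_linearEquiv (LinearEquiv.ofBijective Φ hΦ).symm

variable (B A) in
/-- The image of the base in such an algebra: the algebra is faithfully flat and finitely presented
over it. -/
theorem faithfullyFlat_over_image [Module.Finite B A] [Algebra.FinitePresentation B A]
    [Module.Flat A (A ⊗[B] A)] (C : Type u) [CommRing C] [Algebra B C] [Algebra C A]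
    [IsScalarTower B C A] (hBC : Function.Surjective (algebraMap B C))
    (hCA : Function.Injective (algebraMap C A)) :
    Module.FaithfullyFlat C A ∧ Algebra.FinitePresentation C A := by
  have : Module.FinitePresentation B A := Module.FinitePresentation.of_finite_of_finitePresentation B A
  have := flat_over_image B A C hBC hCA
  have : Module.Finite C A := Module.Finite.of_restrictScalars_finite B C A
  have : Algebra.FiniteType B C :=
    Algebra.FiniteType.of_surjective (Algebra.ofId B C) hBC
  exact ⟨Module.FaithfullyFlat.of_comap_surjective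
    (PrimeSpectrum.comap_surjective_iff_injective_of_finite.mpr hCA),
    Algebra.FinitePresentation.of_restrict_scalars_finitePresentation B C A⟩

end Groth.Calg4.MonoFactor
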