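import Groth.Agent.Calg4.MonoFactor.Slice
import Groth.Agent.Calg4.MonoFactor.FiniteImage
import Groth.Agent.Flatmor4.EtaleSplit
import Groth.Agent.S4091
import Groth.Agent.SpectralTopology.FpCancel
import Groth.Agent.FlatMor2.FlatComp

/-!
Étale locally on the target, the image of a morphism with flat self fibre product is a closed
subscheme near each of its points.
-/

set_option autoImplicit false
set_option linter.style.haveILetI false
set_option backward.isDefEq.respectTransparency.types false

universe u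

open CategoryTheory CategoryTheory.Limits AlgebraicGeometry TopologicalSpace TensorProduct

namespace Groth.Calg4.MonoFactor

variable {X Y : Scheme.{u}} (f : X ⟶ Y)

/-- Flatness of the first projection is inherited along flat maps to the second factor. -/
theorem flat_fst_precomp {U U' : Scheme.{u}} (z : U ⟶ Y) (m : U' ⟶ U) [Flat m]
    [Flat (pullback.fst f z)] : Flat (pullback.fst f (m ≫ z)) := by
  let k : pullback f (m ≫ z) ⟶ pullback f z := pullback.lift (pullback.fst _ _) (pullback.snd _ _ ≫ m)
    (by rw [Category.assoc]; exact pullback.condition)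
  have hk : IsPullback k (pullback.snd f (m ≫ z)) (pullback.snd f z) m := by
    refine IsPullback.of_right (h₁₂ := pullback.fst f z) (v₁₃ := f) (h₂₂ := z) ?_
      (pullback.lift_snd _ _ _) (IsPullback.of_hasPullback f z)
    rw [show k ≫ pullback.fst f z = _ from pullback.lift_fst _ _ _]
    exact IsPullback.of_hasPullback f (m ≫ z)
  have : Flat k := MorphismProperty.of_isPullback hk.flip inferInstance
  rw [← show k ≫ pullback.fst f z = pullback.fst f (m ≫ z) from pullback.lift_fst _ _ _]
  infer_instance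

/-- Flatness of the first projection restricts to factors. -/
theorem flat_fst_of_factor {U V : Scheme.{u}} (z : U ⟶ Y) (a : V ⟶ X)
    [Flat (pullback.fst f z)] : Flat (pullback.fst (a ≫ f) z) := by
  let k : pullback (a ≫ f) z ⟶ pullback f z := pullback.lift (pullback.fst _ _ ≫ a) (pullback.snd _ _)
    (by rw [Category.assoc]; exact pullback.condition)
  have hk : IsPullback (pullback.fst (a ≫ f) z) k a (pullback.fst f z) := by
    refine IsPullback.of_bot ?_ (pullback.lift_fst _ _ _).symm (IsPullback.of_hasPullback f z)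
    rw [show k ≫ pullback.snd f z = _ from pullback.lift_snd _ _ _]
    exact IsPullback.of_hasPullback (a ≫ f) z
  exact MorphismProperty.of_isPullback hk.flip inferInstance

/-- A chart of the image: unramified over `Y`, covered fppf by a slice of `X`. -/
theorem exists_chart [LocallyOfFinitePresentation f] [Flat (pullback.fst f f)] (y : Y)
    (hy : y ∈ Set.range f) :
    ∃ (Q U : Scheme.{u}) (π : Q ⟶ Y) (r : U ⟶ Q) (a : U ⟶ X), a ≫ f = r ≫ π ∧
      LocallyOfFinitePresentation π ∧ FormallyUnramified π ∧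
      Flat r ∧ LocallyOfFinitePresentation r ∧ Surjective r ∧ QuasiCompact r ∧
      Flat (pullback.fst f (a ≫ f)) ∧ y ∈ Set.range π := by
  obtain ⟨U₀, u, v, hlfp, hflat, hv, hqf⟩ := exists_slice f y hy
  obtain ⟨W, g, w, hw, hsplit⟩ := Groth.Flatmor4.exists_split (u ≫ f) y (ι := PUnit.{1}) (fun _ => v)
    (fun _ => hv) (fun _ => hqf)
  obtain ⟨V, v', hv'V, hfin, hv'v, hv'w, -⟩ := hsplit PUnit.unit
  have := hw.etale
  obtain ⟨_, ⟨Wa : W.Opens, hWa, rfl⟩, hwWa, -⟩ :=
    W.isBasis_affineOpens.exists_subset_of_mem_open (Set.mem_univ w) isOpen_univ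
  let π₁ := V.ι ≫ pullback.snd (u ≫ f) g
  let Ua := π₁ ⁻¹ᵁ Wa
  have hUa : IsAffineOpen Ua := hWa.preimage π₁
  let B := Γ(W, Wa)
  let A := Γ(V, Ua)
  let φ : B ⟶ A := π₁.appLE Wa Ua le_rfl
  let m : Spec A ⟶ U₀ := hUa.fromSpec ≫ V.ι ≫ pullback.fst (u ≫ f) g
  let a : Spec A ⟶ X := m ≫ u
  let ρ : Spec B ⟶ Y := hWa.fromSpec ≫ g
  have haf : a ≫ f = Spec.map φ ≫ ρ := by
    show (m ≫ u) ≫ f = _
    rw [hWa.SpecMap_appLE_fromSpec_assoc π₁ hUa le_rfl]
    simp only [m, π₁, Category.assoc, pullback.condition]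
  have hflat' : Flat (pullback.fst f (a ≫ f)) := by
    rw [Category.assoc]
    exact flat_fst_precomp f (u ≫ f) m
  have hlfp' : LocallyOfFinitePresentation (Spec.map φ) := by
    have : LocallyOfFinitePresentation (Spec.map φ ≫ ρ) := by
      rw [← haf, Category.assoc]; infer_instance
    exact Groth.SpectralTopology.lfp_of_comp (Spec.map φ) ρ
  have hfinφ : φ.hom.Finite := by
    have : IsFinite π₁ := hfin
    have h := π₁.finite_app Wa hWa
    rwa [Scheme.Hom.app_eq_appLE] at h
  algebraize [φ.hom]
  have : Algebra.FinitePresentation B A :=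
    RingHom.finitePresentation_algebraMap.mp ((LocallyOfFinitePresentation.SpecMap_iff _).mp hlfp')
  have hφ : Spec.map φ = Spec.map (CommRingCat.ofHom (algebraMap B A)) := rfl
  -- self tensor product
  have : Module.Flat A (A ⊗[B] A) := by
    let b := Spec.map φ
    have h1 : Flat (pullback.fst (a ≫ f) (a ≫ f)) := flat_fst_of_factor f (a ≫ f) a
    have h2 : Flat (pullback.fst (b ≫ ρ) (b ≫ ρ)) := by rwa [haf] at h1
    let d := pullback.map b b (b ≫ ρ) (b ≫ ρ) (𝟙 _) (𝟙 _) ρ (Category.id_comp _).symm
      (Category.id_comp _).symm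
    have : IsOpenImmersion d :=
      MorphismProperty.of_isPullback (pullback_map_diagonal_isPullback b b ρ) inferInstance
    have h3 : Flat (pullback.fst b b) := by
      rw [← show d ≫ pullback.fst (b ≫ ρ) (b ≫ ρ) = pullback.fst b b from
        (pullback.lift_fst _ _ _).trans (Category.comp_id _)]
      infer_instance
    have h4 : Flat ((pullbackSpecIso B A A).inv ≫
        pullback.fst (Spec.map (CommRingCat.ofHom (algebraMap B A)))
          (Spec.map (CommRingCat.ofHom (algebraMap B A)))) := by
      have : Flat (pullback.fst (Spec.map (CommRingCat.ofHom (algebraMap B A)))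
          (Spec.map (CommRingCat.ofHom (algebraMap B A)))) := h3
      infer_instance
    rw [pullbackSpecIso_inv_fst'] at h4
    exact RingHom.flat_algebraMap_iff.mp (Flat.SpecMap_iff.mp h4)
  let C := B ⧸ RingHom.ker φ.hom
  letI : Algebra C A := (RingHom.kerLift φ.hom).toAlgebra
  have : IsScalarTower B C A := IsScalarTower.of_algebraMap_eq fun _ => rfl
  obtain ⟨hff, hfpCA⟩ := faithfullyFlat_over_image (B := B) (A := A) C Ideal.Quotient.mk_surjective
    (RingHom.kerLift_injective _)
  let r : Spec A ⟶ Spec (CommRingCat.of C) := Spec.map (CommRingCat.ofHom (algebraMap C A))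
  let cl : Spec (CommRingCat.of C) ⟶ Spec B := Spec.map (CommRingCat.ofHom (Ideal.Quotient.mk (RingHom.ker φ.hom)))
  have : IsClosedImmersion cl := IsClosedImmersion.spec_of_surjective _ Ideal.Quotient.mk_surjective
  have hrc : r ≫ cl = Spec.map φ := by
    rw [← Spec.map_comp]
    rfl
  have hr1 : Flat r := Flat.SpecMap_iff.mpr (RingHom.flat_algebraMap_iff.mpr inferInstance)
  have hr2 : LocallyOfFinitePresentation r :=
    (LocallyOfFinitePresentation.SpecMap_iff _).mpr (RingHom.finitePresentation_algebraMap.mpr hfpCA)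
  have hr3 : Surjective r := ⟨PrimeSpectrum.comap_surjective_of_faithfullyFlat⟩
  have hcl : LocallyOfFinitePresentation cl :=
    ((Groth.Agent.S4091.result r cl).2 (by
      rw [hrc]; exact ⟨hlfp', inferInstance, inferInstance⟩)).1
  have : FormallyUnramified (cl ≫ ρ) :=
    MorphismProperty.comp_mem @FormallyUnramified cl ρ inferInstance inferInstance
  refine ⟨Spec (CommRingCat.of C), Spec A, cl ≫ ρ, r, a, ?_, inferInstance, inferInstance, hr1, hr2,
    hr3, inferInstance, hflat', ?_⟩
  · rw [haf, ← hrc, Category.assoc]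
  · have hpt : (⟨v', hv'V⟩ : V) ∈ Ua := by
      show π₁ ⟨v', hv'V⟩ ∈ Wa
      rw [Scheme.Hom.comp_apply, show V.ι ⟨v', hv'V⟩ = v' from rfl, hv'w]
      exact hwWa
    refine ⟨r (hUa.primeIdealOf ⟨⟨v', hv'V⟩, hpt⟩), ?_⟩
    rw [← Scheme.Hom.comp_apply, ← Category.assoc, hrc, ← haf]
    show f (u (pullback.fst (u ≫ f) g (V.ι (hUa.fromSpec _)))) = y
    rw [hUa.fromSpec_primeIdealOf, show V.ι ⟨v', hv'V⟩ = v' from rfl, hv'v]
    exact hv

end Groth.Calg4.MonoFactor
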