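import Mathlib
import Groth.Agent.FlatMor2.FibCrit.RegSeq
import Groth.Agent.FlatMor2.FibCrit.LocalQuotient
import Groth.Agent.S9598

/-!
Cutting a self-fibre product flat over one factor by a sequence regular on the fibre.
-/

set_option autoImplicit false
set_option linter.style.haveILetI false
set_option backward.isDefEq.respectTransparency.types false

universe u

open TensorProduct RingTheory.Sequence Pointwise

namespace Groth.Calg4.MonoFactor

/-- Weakly regular sequences are preserved by flat ring maps. -/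
theorem isWeaklyRegular_map_flat {F D : Type u} [CommRing F] [CommRing D] (ψ : F →+* D) (hψ : ψ.Flat)
    (l : List F) (h : IsWeaklyRegular F l) : IsWeaklyRegular D (l.map ψ) := by
  algebraize [ψ]
  show IsWeaklyRegular D (l.map (algebraMap F D))
  rw [isWeaklyRegular_map_algebraMap_iff]
  exact ((TensorProduct.rid F D).isWeaklyRegular_congr l).mp (h.isWeaklyRegular_lTensor (M₂ := D))

/-- In an algebra of finite type over a field there is a regular sequence of images of `A` cutting out a
nonempty zero-dimensional closed subset. -/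
theorem exists_regular_cut (k : Type u) [Field k] {A : Type u} [CommRing A] :
    ∀ (n : ℕ) (F : Type u) [CommRing F] [Algebra k F] [Algebra.FiniteType k F] [Algebra A F]
      [Nontrivial F], (∀ y : F, ∃ a : A, ∃ v : F, IsUnit v ∧ algebraMap A F a = v * y) →
      ringKrullDim F ≤ n →
      ∃ hs : List A, IsWeaklyRegular F hs ∧ ∃ M : Ideal F, M.IsPrime ∧
        (∀ a ∈ hs, algebraMap A F a ∈ M) ∧
        ∀ P : Ideal F, P.IsPrime → (∀ a ∈ hs, algebraMap A F a ∈ P) → P.IsMaximal := by
  intro n
  induction n with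
  | zero =>
    intro F _ _ _ _ _ _ hdim
    have : Ring.KrullDimLE 0 F := Ring.krullDimLE_iff.mpr (hdim.trans_eq Nat.cast_zero)
    obtain ⟨M, hM⟩ := Ideal.exists_maximal F
    exact ⟨[], IsWeaklyRegular.nil _ _, M, hM.isPrime, by simp, fun P hP _ => inferInstance⟩
  | succ n ih =>
    intro F _ _ _ _ _ hlift hdim
    by_cases h0 : ringKrullDim F ≤ 0
    · exact ih F hlift (h0.trans (Nat.cast_nonneg n))
    obtain ⟨y, hy, hyu⟩ := Groth.Agent.S9598.result (k := k) (S := F) (not_le.mp h0)
    obtain ⟨a, v, hv, ha⟩ := hlift y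
    let f := algebraMap A F a
    have hf : f ∈ nonZeroDivisors F := by
      show algebraMap A F a ∈ _
      rw [ha]; exact mul_mem hv.mem_nonZeroDivisors hy
    have hfu : ¬ IsUnit f := by
      show ¬ IsUnit (algebraMap A F a)
      rw [ha]; exact fun h => hyu (isUnit_of_mul_isUnit_right h)
    let J : Ideal F := Ideal.span {f}
    have hJ : J ≠ ⊤ := by rwa [Ne, Ideal.span_singleton_eq_top]
    have : Nontrivial (F ⧸ J) := Ideal.Quotient.nontrivial_iff.mpr hJ
    have h1 : ringKrullDim (F ⧸ J) + 1 ≤ (n + 1 : ℕ) :=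
      (ringKrullDim_quotient_succ_le_of_nonZeroDivisor hf).trans hdim
    obtain ⟨hs, hreg, M, hM, hhsM, hmax⟩ := ih (F ⧸ J) (fun z => by
      obtain ⟨z, rfl⟩ := Ideal.Quotient.mk_surjective z
      obtain ⟨b, w, hw, hb⟩ := hlift z
      exact ⟨b, Ideal.Quotient.mk J w, hw.map _, by
        rw [IsScalarTower.algebraMap_apply A F (F ⧸ J), hb, ← map_mul]; rfl⟩) (by
      revert h1
      generalize ringKrullDim (F ⧸ J) = d
      induction d using WithBot.recBotCoe with
      | bot => exact fun _ => bot_le
      | coe d =>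
        intro h1
        have h2 : d + 1 ≤ ((n + 1 : ℕ) : ℕ∞) := by exact_mod_cast h1
        rw [Nat.cast_succ, ENat.add_le_add_iff_right ENat.one_ne_top] at h2
        exact_mod_cast h2)
    refine ⟨a :: hs, (isWeaklyRegular_cons_iff F a hs).mpr ⟨?_, ?_⟩,
      M.comap (Ideal.Quotient.mk J), Ideal.IsPrime.comap _, ?_, fun P hP hPa => ?_⟩
    · intro z z' hz
      change a • z = a • z' at hz
      rw [Algebra.smul_def, Algebra.smul_def] at hz
      exact (mem_nonZeroDivisors_iff_right.mp hf (z - z') (by rw [sub_mul, mul_comm z, mul_comm z',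
        hz, sub_self]) |> sub_eq_zero.mp)
    · have e : (a • (⊤ : Submodule A F)) = J.restrictScalars A := by
        ext z
        rw [Submodule.mem_smul_pointwise_iff_exists, Submodule.restrictScalars_mem,
          Ideal.mem_span_singleton']
        constructor
        · rintro ⟨w, -, rfl⟩
          exact ⟨w, by rw [Algebra.smul_def, mul_comm]⟩
        · rintro ⟨w, rfl⟩
          exact ⟨w, trivial, by rw [Algebra.smul_def, mul_comm]⟩
      exact (((Submodule.quotEquivOfEq _ _ e).trans
        (Submodule.Quotient.restrictScalarsEquiv A J)).isWeaklyRegular_congr hs).mpr hreg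
    · intro b hb
      rcases List.mem_cons.mp hb with rfl | hb
      · show Ideal.Quotient.mk J f ∈ M
        rw [Ideal.Quotient.eq_zero_iff_mem.mpr (Ideal.mem_span_singleton_self f)]
        exact zero_mem _
      · exact hhsM b hb
    · have hker : RingHom.ker (Ideal.Quotient.mk J) ≤ P := by
        rw [Ideal.mk_ker, Ideal.span_singleton_le_iff_mem]
        exact hPa a (List.mem_cons_self ..)
      have := Ideal.map_isPrime_of_surjective Ideal.Quotient.mk_surjective hker
      have hmx := hmax (P.map (Ideal.Quotient.mk J)) this fun b hb =>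
        Ideal.mem_map_of_mem _ (hPa b (List.mem_cons_of_mem _ hb))
      have := Ideal.comap_isMaximal_of_surjective (Ideal.Quotient.mk J) Ideal.Quotient.mk_surjective
        (K := P.map (Ideal.Quotient.mk J))
      rwa [Ideal.comap_map_of_surjective' _ Ideal.Quotient.mk_surjective, sup_of_le_left hker] at this

/-- The image of a list generates the image ideal. -/
theorem map_ofList {R S : Type u} [CommRing R] [CommRing S] (φ : R →+* S) (l : List R) :
    (Ideal.ofList l).map φ = Ideal.ofList (l.map φ) := by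
  rw [Ideal.ofList, Ideal.ofList, Ideal.map_span]
  congr 1
  ext z
  simp

/-- A localisation of a quotient is flat if the quotient of the localisation is. -/
theorem flat_away_of_surjective {A C E : Type u} [CommRing A] [CommRing C] [CommRing E] [Algebra A C]
    [Algebra A E] (π : C →ₐ[A] E) (hπ : Function.Surjective π) (g : C) (K : Ideal C)
    (hK : RingHom.ker π = K)
    (h : Module.Flat A (Localization.Away g ⧸ (K • ⊤ : Submodule C (Localization.Away g)))) :
    Module.Flat A (Localization.Away (π g)) := by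
  let Cg := Localization.Away g
  let Eg := Localization.Away (π g)
  let κ : Cg →ₐ[A] Eg := IsLocalization.Away.mapₐ Cg Eg π g
  have hκ : ∀ c, κ (algebraMap C Cg c) = algebraMap E Eg (π c) := fun c => by
    rw [IsLocalization.Away.mapₐ_apply, IsLocalization.Away.map, IsLocalization.map_eq]
    rfl
  let κ' : (Cg ⧸ (K • ⊤ : Submodule C Cg)) →ₗ[A] Eg :=
    Submodule.liftQ ((K • ⊤ : Submodule C Cg).restrictScalars A) κ.toLinearMap (by
      intro z hz
      rw [Submodule.restrictScalars_mem, Ideal.smul_top_eq_map, Submodule.restrictScalars_mem] at hz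
      refine (Ideal.map_le_iff_le_comap.mpr (fun c hc => ?_) :
        K.map (algebraMap C Cg) ≤ RingHom.ker κ.toRingHom) hz
      show κ (algebraMap C Cg c) = 0
      rw [hκ, show π c = 0 from hK.ge hc, map_zero])
  have hsurj : Function.Surjective κ := by
    intro y
    obtain ⟨⟨e, ⟨_, k, rfl⟩⟩, hy⟩ := IsLocalization.surj (Submonoid.powers (π g)) y
    obtain ⟨c, rfl⟩ := hπ e
    refine ⟨algebraMap C Cg c * IsLocalization.Away.invSelf g ^ k, ?_⟩
    have hi : algebraMap E Eg (π g) * κ (IsLocalization.Away.invSelf g) = 1 := by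
      rw [← hκ, ← map_mul, IsLocalization.Away.mul_invSelf, map_one]
    rw [map_mul, map_pow, hκ, ← hy, map_pow]
    rw [mul_assoc, ← mul_pow, hi, one_pow, mul_one]
  have hbij : Function.Bijective κ' := by
    constructor
    · rw [← LinearMap.ker_eq_bot]
      refine Submodule.ker_liftQ_eq_bot _ _ _ ?_
      intro z hz
      obtain ⟨c, ⟨_, k, rfl⟩, rfl⟩ := IsLocalization.exists_mk'_eq (Submonoid.powers g) z
      have h0 : algebraMap E Eg (π c) = 0 := by
        rw [← hκ, ← IsLocalization.mk'_spec Cg c (⟨g ^ k, k, rfl⟩ : Submonoid.powers g), map_mul]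
        rw [show κ (IsLocalization.mk' Cg c (⟨g ^ k, k, rfl⟩ : Submonoid.powers g)) = 0 from hz, zero_mul]
      obtain ⟨⟨_, m, rfl⟩, hm⟩ := (IsLocalization.map_eq_zero_iff (Submonoid.powers (π g)) Eg _).mp h0
      rw [Submodule.restrictScalars_mem, Ideal.smul_top_eq_map, Submodule.restrictScalars_mem]
      have : g ^ m * c ∈ K := by
        rw [← hK, RingHom.mem_ker, map_mul, map_pow]
        exact hm
      rw [IsLocalization.mk'_eq_mul_mk'_one]
      refine Ideal.mul_mem_right _ _ ?_
      have h2 := Ideal.mem_map_of_mem (algebraMap C Cg) this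
      rwa [map_mul, Ideal.unit_mul_mem_iff_mem _
        ((IsLocalization.Away.algebraMap_isUnit g).pow m |> fun h => (map_pow (algebraMap C Cg) g m).symm ▸ h)] at h2
    · intro y
      obtain ⟨z, rfl⟩ := hsurj y
      exact ⟨Submodule.Quotient.mk z, rfl⟩
  exact Module.Flat.of_linearEquiv (LinearEquiv.ofBijective κ' hbij).symm

variable {B A : Type u} [CommRing B] [CommRing A] [Algebra B A] [Algebra.FinitePresentation B A]
  [Module.Flat A (A ⊗[B] A)]

/-- Flatness near the diagonal after cutting the second factor. -/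
theorem exists_flat_away (q : Ideal A) [q.IsPrime] (hs : List A) (hq : ∀ a ∈ hs, a ∈ q)
    (hreg : IsWeaklyRegular ((q.under B).Fiber A)
      (hs.map (Algebra.TensorProduct.includeRight : A →ₐ[B] (q.under B).Fiber A))) :
    ∃ e : A ⊗[B] (A ⧸ Ideal.ofList hs), Module.Flat A (Localization.Away e) ∧
      ∀ (P : Ideal (A ⧸ Ideal.ofList hs)), P.comap (Ideal.Quotient.mk _) = q →
        ∃ w : Ideal (A ⊗[B] (A ⧸ Ideal.ofList hs)), w.IsPrime ∧ e ∉ w ∧
          w.comap (Algebra.TensorProduct.includeRight :
            A ⧸ Ideal.ofList hs →ₐ[B] A ⊗[B] (A ⧸ Ideal.ofList hs)).toRingHom = P := by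
  let C := A ⊗[B] A
  let ι : A →ₐ[B] C := Algebra.TensorProduct.includeRight
  let μ : C →ₐ[B] A := Algebra.TensorProduct.lmul' B
  let w₀ : Ideal C := q.comap μ.toRingHom
  have : w₀.IsPrime := Ideal.IsPrime.comap _
  have hw₀A : w₀.under A = q := by
    ext a
    show μ (algebraMap A C a) ∈ q ↔ a ∈ q
    rw [Algebra.TensorProduct.algebraMap_apply]
    rw [show μ (algebraMap A A a ⊗ₜ[B] 1) = a from
      (Algebra.TensorProduct.lmul'_apply_tmul (algebraMap A A a) (1 : A)).trans (mul_one a)]
  have : w₀.LiesOver q := ⟨hw₀A.symm⟩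
  let p := q.under B
  let L := Localization.AtPrime w₀
  let D := L ⧸ q.map (algebraMap A L)
  obtain ⟨φ, hφ⟩ := Groth.FlatMor2.FibCrit.exists_fibToQuot (A := A) (C := C) (p := q) (q := w₀) (Cq := L)
  letI : Algebra (q.Fiber C) D := φ.toRingHom.toAlgebra
  have hloc := Groth.FlatMor2.FibCrit.exists_isLocalization_fib (A := A) (C := C) (p := q) (q := w₀)
    (Cq := L) hφ
  have hflat₁ : φ.toRingHom.Flat := by
    show Module.Flat (q.Fiber C) D
    exact IsLocalization.flat D (w₀.primeCompl.map
      (Algebra.TensorProduct.includeRight : C →ₐ[A] q.Fiber C))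
  letI : Algebra p.ResidueField q.ResidueField :=
    (Ideal.ResidueField.map p q (algebraMap B A) rfl).toAlgebra
  have : IsScalarTower B p.ResidueField q.ResidueField := IsScalarTower.of_algebraMap_eq fun b =>
    ((Ideal.ResidueField.map_algebraMap p q (algebraMap B A) rfl b).trans
      (IsScalarTower.algebraMap_apply B A q.ResidueField b).symm).symm
  let F := p.ResidueField ⊗[B] A
  let G := q.ResidueField ⊗[p.ResidueField] F
  let i₁ : G ≃ₐ[q.ResidueField] q.ResidueField ⊗[B] A :=
    Algebra.TensorProduct.cancelBaseChange B p.ResidueField q.ResidueField q.ResidueField A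
  let i₂ : q.Fiber C ≃ₐ[q.ResidueField] q.ResidueField ⊗[B] A :=
    Algebra.TensorProduct.cancelBaseChange B A q.ResidueField q.ResidueField A
  letI : CommRing F := Algebra.TensorProduct.instCommRing
  let inc : F →+* G := (Algebra.TensorProduct.includeRight :
    F →ₐ[p.ResidueField] G).toRingHom
  have hinc : inc.Flat := by
    letI : Algebra F G := Algebra.TensorProduct.rightAlgebra
    show Module.Flat F G
    exact Module.Flat.of_linearEquiv (Algebra.TensorProduct.commRight p.ResidueField F q.ResidueField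
      ).toLinearEquiv.symm
  let i₁₂ : G →+* q.Fiber C := (i₁.trans i₂.symm).toRingEquiv.toRingHom
  have hi : i₁₂.Flat := RingHom.Flat.of_bijective (i₁.trans i₂.symm).bijective
  let ψ := φ.toRingHom.comp (i₁₂.comp inc)
  have hψf : RingHom.Flat ψ := (hinc.comp hi).comp hflat₁
  have hψ : ∀ a : A, ψ ((1 : p.ResidueField) ⊗ₜ[B] a) = Ideal.Quotient.mk _ (algebraMap C L (ι a)) := by
    intro a
    have : (i₁.trans i₂.symm) (1 ⊗ₜ[p.ResidueField] ((1 : p.ResidueField) ⊗ₜ[B] a)) =
        ((1 : q.ResidueField) ⊗ₜ[A] ι a) := by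
      rw [AlgEquiv.trans_apply, AlgEquiv.symm_apply_eq]
      show i₁ _ = i₂ ((1 : q.ResidueField) ⊗ₜ[A] ((1 : A) ⊗ₜ[B] a))
      erw [Algebra.TensorProduct.cancelBaseChange_tmul, Algebra.TensorProduct.cancelBaseChange_tmul]
      simp only [one_smul]
    show φ _ = _
    rw [← hφ]
    exact congrArg φ this
  have hD : IsWeaklyRegular D (hs.map ι) := by
    have h1 := isWeaklyRegular_map_flat ψ hψf _ hreg
    rw [← isWeaklyRegular_map_algebraMap_iff D]
    rw [List.map_map] at h1 ⊢
    refine Eq.mp (congrArg _ (List.map_congr_left fun a _ => ?_)) h1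
    show ψ ((1 : p.ResidueField) ⊗ₜ[B] a) = algebraMap C D (ι a)
    rw [hψ]; rfl
  obtain ⟨g, hg, hflat⟩ := Groth.FlatMor2.FibCrit.exists_nhd_weaklyRegular (A := A) (hs.map ι) w₀
    (fun h hh => by
      obtain ⟨a, ha, rfl⟩ := List.mem_map.mp hh
      show μ (ι a) ∈ q
      rw [show μ (ι a) = a from (Algebra.TensorProduct.lmul'_apply_tmul (1 : A) a).trans (one_mul a)]
      exact hq a ha) L (by rw [hw₀A]; exact hD)
  obtain ⟨hfl, -⟩ := hflat g dvd_rfl (Localization.Away g)
  let I := Ideal.ofList hs
  let E := A ⊗[B] (A ⧸ I)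
  let π : C →ₐ[A] E := Algebra.TensorProduct.map (AlgHom.id A A) (Ideal.Quotient.mkₐ B I)
  refine ⟨π g, ?_, fun P hP => ?_⟩
  · refine flat_away_of_surjective π ?_ g (Ideal.ofList (hs.map ι)) ?_ hfl
    · intro x
      induction x using TensorProduct.induction_on with
      | zero => exact ⟨0, map_zero π⟩
      | tmul a z =>
        obtain ⟨z, rfl⟩ := Ideal.Quotient.mk_surjective z
        exact ⟨a ⊗ₜ z, rfl⟩
      | add x y hx hy =>
        obtain ⟨a, rfl⟩ := hx
        obtain ⟨b, rfl⟩ := hy
        exact ⟨a + b, map_add _ _ _⟩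
    · refine ((Algebra.TensorProduct.lTensor_ker (A := A) (Ideal.Quotient.mkₐ B I)
        Ideal.Quotient.mk_surjective).trans ?_)
      rw [show RingHom.ker (Ideal.Quotient.mkₐ B I) = I from Ideal.mk_ker]
      exact map_ofList ι.toRingHom hs
  · let μ' : E →ₐ[B] A ⧸ I := (Algebra.TensorProduct.lmul' B).comp
      (Algebra.TensorProduct.map (Ideal.Quotient.mkₐ B I) (AlgHom.id B (A ⧸ I)))
    have hPp : P.IsPrime := by
      refine ⟨fun h => ?_, fun {x y} hxy => ?_⟩
      · exact Ideal.IsPrime.ne_top (inferInstance : q.IsPrime) (by rw [← hP, h, Ideal.comap_top])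
      · obtain ⟨x, rfl⟩ := Ideal.Quotient.mk_surjective x
        obtain ⟨y, rfl⟩ := Ideal.Quotient.mk_surjective y
        have h2 : x * y ∈ q := by rw [← hP, Ideal.mem_comap, map_mul]; exact hxy
        rcases Ideal.IsPrime.mem_or_mem inferInstance h2 with h3 | h3 <;>
          rw [← hP] at h3
        exacts [Or.inl h3, Or.inr h3]
    refine ⟨P.comap μ'.toRingHom, Ideal.IsPrime.comap _, fun h => hg ?_, ?_⟩
    · show μ g ∈ q
      rw [← hP, Ideal.mem_comap]
      have : ∀ c, μ' (π c) = Ideal.Quotient.mk I (μ c) := by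
        intro c
        induction c using TensorProduct.induction_on with
        | zero => simp
        | tmul a b =>
          show (Algebra.TensorProduct.lmul' B) (Ideal.Quotient.mk I a ⊗ₜ[B] Ideal.Quotient.mk I b) = Ideal.Quotient.mk I (μ (a ⊗ₜ b))
          rw [show μ (a ⊗ₜ b) = a * b from Algebra.TensorProduct.lmul'_apply_tmul a b, Algebra.TensorProduct.lmul'_apply_tmul, map_mul]
        | add a b ha hb => simp only [map_add, ha, hb]
      rw [← this]
      exact h
    · ext z
      show μ' ((1 : A) ⊗ₜ[B] z) ∈ P ↔ z ∈ P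
      rw [show μ' ((1 : A) ⊗ₜ[B] z) = z from (Algebra.TensorProduct.lmul'_apply_tmul (1 : A ⧸ I) z).trans (one_mul z)]

end Groth.Calg4.MonoFactor

namespace Groth.Calg4.MonoFactor

variable {B A : Type u} [CommRing B] [CommRing A] [Algebra B A] [Algebra.FinitePresentation B A]

/-- In a nonempty fibre there is a point cut out, up to isolated points, by a regular sequence. -/
theorem exists_cut (p : PrimeSpectrum B) (hp : p ∈ Set.range (PrimeSpectrum.comap (algebraMap B A))) :
    ∃ (hs : List A) (P : Ideal (A ⧸ Ideal.ofList hs)) (_ : P.IsPrime),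
      (P.comap (Ideal.Quotient.mk _)).under B = p.asIdeal ∧ Algebra.QuasiFiniteAt B P ∧
        IsWeaklyRegular (p.asIdeal.Fiber A)
          (hs.map (Algebra.TensorProduct.includeRight : A →ₐ[B] p.asIdeal.Fiber A)) := by
  obtain ⟨x₀, hx₀⟩ := hp
  let F := p.asIdeal.Fiber A
  have : Nontrivial F := (PrimeSpectrum.preimageEquivFiber B A p ⟨x₀, hx₀⟩).nontrivial
  let ι : A →ₐ[B] F := Algebra.TensorProduct.includeRight
  letI : Algebra A F := ι.toRingHom.toAlgebra
  obtain ⟨m, π, hπ⟩ := Algebra.FiniteType.iff_quotient_mvPolynomial''.mp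
    (inferInstance : Algebra.FiniteType p.asIdeal.ResidueField F)
  obtain ⟨hs, hreg, M, hM, hhsM, hmax⟩ := exists_regular_cut p.asIdeal.ResidueField (A := A) m F
    (fun y => by
      obtain ⟨s, hs, a, ha⟩ := Ideal.Fiber.exists_smul_eq_one_tmul p.asIdeal y
      refine ⟨a, algebraMap B F s, ?_, ?_⟩
      · rw [IsScalarTower.algebraMap_apply B p.asIdeal.ResidueField]
        exact (isUnit_iff_ne_zero.mpr fun h => hs
          (Ideal.algebraMap_residueField_eq_zero.mp h)).map _
      · rw [← Algebra.smul_def, ha]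
        rfl)
    ((ringKrullDim_le_of_surjective π.toRingHom hπ).trans (by
      rw [MvPolynomial.ringKrullDim_of_isNoetherianRing, ringKrullDim_eq_zero_of_field, zero_add,
        Nat.card_fin]))
  let I := Ideal.ofList hs
  let q := ((PrimeSpectrum.preimageEquivFiber B A p).symm ⟨M, hM⟩).1
  have hqp : q.comap (algebraMap B A) = p := ((PrimeSpectrum.preimageEquivFiber B A p).symm ⟨M, hM⟩).2
  have hIq : I ≤ q.asIdeal := Ideal.span_le.mpr fun a ha => hhsM a ha
  have hker : RingHom.ker (Ideal.Quotient.mk I) ≤ q.asIdeal := by rwa [Ideal.mk_ker]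
  have hPc : (q.asIdeal.map (Ideal.Quotient.mk I)).comap (Ideal.Quotient.mk I) = q.asIdeal := by
    rw [Ideal.comap_map_of_surjective' _ Ideal.Quotient.mk_surjective, sup_of_le_left hker]
  have hPp : (q.asIdeal.map (Ideal.Quotient.mk I)).IsPrime :=
    Ideal.map_isPrime_of_surjective Ideal.Quotient.mk_surjective hker
  refine ⟨hs, q.asIdeal.map (Ideal.Quotient.mk I), hPp, ?_, ?_, ?_⟩
  · rw [hPc]
    exact congrArg PrimeSpectrum.asIdeal hqp
  · let P' : PrimeSpectrum (A ⧸ I) := ⟨_, hPp⟩
    have hP' : P'.comap (algebraMap B (A ⧸ I)) = p := by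
      rw [← hqp]
      refine PrimeSpectrum.ext ?_
      show (q.asIdeal.map (Ideal.Quotient.mk I)).comap (algebraMap B (A ⧸ I)) = _
      rw [IsScalarTower.algebraMap_eq B A (A ⧸ I), ← Ideal.comap_comap]
      exact congrArg (Ideal.comap (algebraMap B A)) hPc
    let φ : F →ₐ[p.asIdeal.ResidueField] p.asIdeal.Fiber (A ⧸ I) :=
      Algebra.TensorProduct.map (AlgHom.id _ _) (Ideal.Quotient.mkₐ B I)
    have hφ : Function.Surjective φ := by
      intro x
      induction x using TensorProduct.induction_on with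
      | zero => exact ⟨0, map_zero φ⟩
      | tmul c z =>
        obtain ⟨z, rfl⟩ := Ideal.Quotient.mk_surjective z
        exact ⟨c ⊗ₜ z, rfl⟩
      | add x y hx hy =>
        obtain ⟨a, rfl⟩ := hx
        obtain ⟨b, rfl⟩ := hy
        exact ⟨a + b, map_add _ _ _⟩
    have : Ring.KrullDimLE 0 (p.asIdeal.Fiber (A ⧸ I)) := Ring.krullDimLE_zero_iff.mpr fun Q hQ => by
      have := hmax (Q.comap φ.toRingHom) (Ideal.IsPrime.comap _) fun a ha => by
        show φ ((1 : p.asIdeal.ResidueField) ⊗ₜ[B] a) ∈ Q
        rw [show φ ((1 : p.asIdeal.ResidueField) ⊗ₜ[B] a) =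
            (1 : p.asIdeal.ResidueField) ⊗ₜ[B] (Ideal.Quotient.mk I a) from rfl,
          Ideal.Quotient.eq_zero_iff_mem.mpr (show a ∈ I from Ideal.subset_span ha), tmul_zero]
        exact zero_mem _
      rw [← Ideal.map_comap_of_surjective φ.toRingHom hφ Q]
      exact (Ideal.map_eq_top_or_isMaximal_of_surjective φ.toRingHom hφ this).resolve_left fun h =>
        hQ.ne_top (by rwa [Ideal.map_comap_of_surjective φ.toRingHom hφ Q] at h)
    have : IsNoetherianRing (p.asIdeal.Fiber (A ⧸ I)) :=
      Algebra.FiniteType.isNoetherianRing p.asIdeal.ResidueField _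
    have : DiscreteTopology (PrimeSpectrum (p.asIdeal.Fiber (A ⧸ I))) := by
      have : IsArtinianRing (p.asIdeal.Fiber (A ⧸ I)) :=
        isArtinianRing_iff_isNoetherianRing_krullDimLE_zero.mpr ⟨inferInstance, inferInstance⟩
      exact PrimeSpectrum.discreteTopology_iff_finite_and_krullDimLE_zero.mpr
        ⟨inferInstance, inferInstance⟩
    have : DiscreteTopology (PrimeSpectrum.comap (algebraMap B (A ⧸ I)) ⁻¹' {p}) :=
      (PrimeSpectrum.preimageHomeomorphFiber B (A ⧸ I) p).symm.discreteTopology
    rw [← hP'] at this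
    exact (Algebra.quasiFiniteAt_iff_isOpen_singleton_fiber P').mpr (isOpen_discrete _)
  · exact (isWeaklyRegular_map_algebraMap_iff F F hs).mpr hreg

end Groth.Calg4.MonoFactor
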