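import Groth.Agent.Calg4.MonoFactor.Chart
import Groth.Agent.AlgSpBasic.Quotient
import Groth.Agent.AlgSp2.UnramMono

/-!
A morphism locally of finite presentation with flat self fibre product factors as a faithfully flat
morphism followed by a monomorphism.
-/

set_option autoImplicit false
set_option linter.style.haveILetI false
set_option backward.isDefEq.respectTransparency.types false

universe u

open CategoryTheory CategoryTheory.Limits AlgebraicGeometry Opposite AlgSp TopologicalSpace
open Groth.AlgSpBasic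

namespace Groth.Calg4.MonoFactor

variable {X Y : Scheme.{u}}

/-- Maps to the source of a monomorphism descend along fppf covers. -/
theorem exists_desc {X₁ X₂ : Scheme.{u}} (g₁ : X ⟶ X₁) (h₁ : X₁ ⟶ Y) (g₂ : X ⟶ X₂) (h₂ : X₂ ⟶ Y)
    [Flat g₁] [Surjective g₁] [LocallyOfFinitePresentation g₁] [Mono h₂]
    (e : g₁ ≫ h₁ = g₂ ≫ h₂) : ∃ φ : X₁ ⟶ X₂, φ ≫ h₂ = h₁ := by
  let A : Over Y := Over.mk (g₁ ≫ h₁)
  let A₁ : Over Y := Over.mk h₁
  let A₂ : Over Y := Over.mk h₂
  let p : A ⟶ A₁ := Over.homMk g₁ rfl
  let q : A ⟶ A₂ := Over.homMk g₂ e.symm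
  have : Sheaf.IsLocallySurjective ((yon Y).map p) := isLocallySurjective_of_repWith _
    ((repWith_yon_map_iff _ p).2 (inferInstance : Flat g₁))
    ((repWith_yon_map_iff _ p).2 (inferInstance : LocallyOfFinitePresentation g₁))
    ((repWith_yon_map_iff _ p).2 (inferInstance : Surjective g₁))
  let R : Over Y := Over.mk (pullback.fst g₁ g₁ ≫ g₁ ≫ h₁)
  let a : R ⟶ A := Over.homMk (pullback.fst g₁ g₁) rfl
  let b : R ⟶ A := Over.homMk (pullback.snd g₁ g₁) (by
    show pullback.snd g₁ g₁ ≫ g₁ ≫ h₁ = pullback.fst g₁ g₁ ≫ g₁ ≫ h₁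
    rw [pullback.condition_assoc])
  have sq : IsPullback a b p p := IsPullback.of_map (Over.forget Y)
    (Over.OverMorphism.ext pullback.condition) (IsPullback.of_hasPullback g₁ g₁)
  obtain ⟨hcol⟩ := isColimit_of_isLocallySurjective (sq.map (yon Y))
  obtain ⟨d, -⟩ := Cofork.IsColimit.desc' hcol ((yon Y).map q) (by
    rw [← Functor.map_comp, ← Functor.map_comp]
    refine congrArg _ (Over.OverMorphism.ext ((cancel_mono h₂).mp ?_))
    show (pullback.fst g₁ g₁ ≫ g₂) ≫ h₂ = (pullback.snd g₁ g₁ ≫ g₂) ≫ h₂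
    rw [Category.assoc, Category.assoc, ← e, pullback.condition_assoc])
  obtain ⟨φ, -⟩ := (yon Y).map_surjective d
  exact ⟨φ.left, Over.w φ⟩

/-- A map from a scheme to `Y` whose self fibre product has étale projections has as its image a
scheme mapping monomorphically to `Y`. -/
theorem exists_image {Q : Scheme.{u}} (π : Q ⟶ Y) [LocallyOfFiniteType π]
    [Etale (pullback.fst π π)] :
    ∃ (X' : Scheme.{u}) (p : Q ⟶ X') (h : X' ⟶ Y), p ≫ h = π ∧ Mono h ∧ LocallyOfFiniteType h ∧
      Etale p ∧ Surjective p := by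
  let Q₀ : Over Y := Over.mk π
  let T₁ : Over Y := Over.mk (𝟙 Y)
  let R : Over Y := Over.mk (pullback.fst π π ≫ π)
  let t : R ⟶ Q₀ := Over.homMk (pullback.fst π π) rfl
  let s : R ⟶ Q₀ := Over.homMk (pullback.snd π π) pullback.condition.symm
  let q₀ : Q₀ ⟶ T₁ := Over.homMk π (Category.comp_id π)
  have sq : IsPullback t s q₀ q₀ := IsPullback.of_map (Over.forget Y)
    (Over.OverMorphism.ext pullback.condition) (IsPullback.of_hasPullback π π)
  have sqY := sq.map (yon Y)
  have heq : IsEqvRel s t := isEqvRel_of_isPullback sqY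
  let F : Sp Y := QuotSh.quot Scheme.fppfPrecoverage s t
  let pi : (yon Y).obj Q₀ ⟶ F := yonQuotπ s t
  have hls : Sheaf.IsLocallySurjective pi := isLocallySurjective_yonQuotπ s t
  have : Etale t.left := inferInstanceAs (Etale (pullback.fst π π))
  have : Etale s.left := by
    show Etale (pullback.snd π π)
    rw [← pullbackSymmetry_hom_comp_fst π π]; infer_instance
  obtain ⟨hF, hπe, hπs⟩ := isAlgSpace_of_kernelPair (isPullback_yonQuot heq)
  obtain ⟨q, hq⟩ := Cofork.IsColimit.desc' (isColimitYonQuot s t) ((yon Y).map q₀) sqY.w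
  have hq' : pi ≫ q = (yon Y).map q₀ := hq
  have : Mono q := by
    refine ⟨fun {A} a b e => ?_⟩
    have hA := IsPullback.of_hasPullback a pi
    have : Sheaf.IsLocallySurjective (pullback.fst a pi) := isLocallySurjective_of_isPullback hA.flip
    have : Epi (pullback.fst a pi) := inferInstance
    rw [← cancel_epi (pullback.fst a pi)]
    let b' := pullback.fst a pi ≫ b
    have hB := IsPullback.of_hasPullback b' pi
    have : Sheaf.IsLocallySurjective (pullback.fst b' pi) := isLocallySurjective_of_isPullback hB.flip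
    have : Epi (pullback.fst b' pi) := inferInstance
    rw [← cancel_epi (pullback.fst b' pi)]
    have h1 : pullback.fst b' pi ≫ pullback.fst a pi ≫ a =
        (pullback.fst b' pi ≫ pullback.snd a pi) ≫ pi := by
      rw [Category.assoc, pullback.condition]
    have h2 : pullback.fst b' pi ≫ pullback.fst a pi ≫ b = pullback.snd b' pi ≫ pi :=
      pullback.condition
    have hw : (pullback.fst b' pi ≫ pullback.snd a pi) ≫ (yon Y).map q₀ =
        pullback.snd b' pi ≫ (yon Y).map q₀ := by
      rw [← hq']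
      refine (Category.assoc _ pi q).symm.trans (Eq.trans ?_ (Category.assoc _ pi q))
      refine (congrArg (· ≫ q) h1).symm.trans (Eq.trans ?_ (congrArg (· ≫ q) h2))
      simp only [Category.assoc, e]
    rw [h1, h2, ← sqY.lift_fst _ _ hw, Category.assoc, (isPullback_yonQuot heq).w, ← Category.assoc,
      sqY.lift_snd]
  have hl : LocP @LocallyOfFiniteType q := by
    refine locP_of_source_cover hF (IsAlgSpace.yon_obj T₁) hπe hπs ?_
    rw [hq']
    exact locP_of_repWith ((repWith_yon_map_iff _ q₀).2 (inferInstance : LocallyOfFiniteType π))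
  obtain ⟨hr, -, -⟩ := Groth.AlgSp2.representable_of_mono_lft hF (IsAlgSpace.yon_obj T₁) hl
  have hq2 : RepWith @LocallyOfFiniteType q := repWith_of_locP (IsAlgSpace.yon_obj T₁) hr hl
  obtain ⟨X', snd, fst, sq'⟩ := hr ((yon Y).map (𝟙 T₁))
  have : IsIso ((yon Y).map (𝟙 T₁)) := inferInstance
  have : IsIso fst := sq'.isIso_fst_of_isIso
  have hsnd : LocallyOfFiniteType snd.left := hq2.property _ fst snd sq'
  obtain ⟨p, hp⟩ := (yon Y).map_surjective (pi ≫ inv fst)
  have hpe : Etale p.left := by
    refine (repWith_yon_map_iff @Etale p).1 ?_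
    rw [hp]
    exact repWith_comp hπe (repWith_isIso _)
  have hps : Surjective p.left := by
    refine (repWith_yon_map_iff @Surjective p).1 ?_
    rw [hp]
    exact repWith_comp hπs (repWith_isIso _)
  have : Mono snd := by
    refine (yon Y).mono_of_mono_map ?_
    have h1 : (yon Y).map snd = fst ≫ q := by
      rw [sq'.w, CategoryTheory.Functor.map_id, Category.comp_id]
    rw [h1]
    infer_instance
  have hm : Mono snd.left := inferInstanceAs (Mono ((Over.forget Y).map snd))
  have hX : X'.hom = snd.left := by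
    have := Over.w snd
    simp only [T₁, Over.mk_hom] at this
    rw [← this]; exact Category.comp_id _
  exact ⟨X'.left, p.left, X'.hom, Over.w p, hX ▸ hm, hX ▸ hsnd, hpe, hps⟩

/-- Flatness of the first projection is local on the second factor. -/
theorem etale_fst_of_cover (f : X ⟶ Y) {Q : Scheme.{u}} (π : Q ⟶ Y) (𝒰 : Q.OpenCover)
    (h : ∀ i, Etale (pullback.fst f (𝒰.f i ≫ π))) : Etale (pullback.fst f π) := by
  refine IsZariskiLocalAtSource.of_openCover (P := @Etale) (𝒰.pullback₁ (pullback.snd f π)) fun i => ?_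
  have e : IsPullback (pullback.fst (pullback.snd f π) (𝒰.f i) ≫ pullback.fst f π)
      (pullback.snd (pullback.snd f π) (𝒰.f i)) f (𝒰.f i ≫ π) :=
    (IsPullback.of_hasPullback (pullback.snd f π) (𝒰.f i)).paste_horiz
      (IsPullback.of_hasPullback f π) |> fun h' => h'
  show Etale (pullback.fst (pullback.snd f π) (𝒰.f i) ≫ pullback.fst f π)
  rw [← e.isoPullback_hom_fst]
  infer_instance

theorem exists_factorisation (f : X ⟶ Y) [LocallyOfFinitePresentation f]
    [Flat (pullback.fst f f)] :
    ∃ (X' : Scheme.{u}) (f' : X ⟶ X') (f'' : X' ⟶ Y),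
      Surjective f' ∧ Flat f' ∧ LocallyOfFinitePresentation f' ∧ Mono f'' ∧ f' ≫ f'' = f := by
  choose Q U π r a hcomp hπfp hπu hrf hrlfp hrs hrqc hflat hy using
    fun y : Set.range f => exists_chart f y.1 y.2
  let 𝒰 : (∐ Q).OpenCover := sigmaOpenCover.{u} Q
  let π₀ : (∐ Q) ⟶ Y := Sigma.desc π
  have hι : ∀ i, 𝒰.f i ≫ π₀ = π i := fun i => Sigma.ι_desc _ _
  have hlfp : LocallyOfFinitePresentation π₀ :=
    IsZariskiLocalAtSource.sigmaDesc (P := @LocallyOfFinitePresentation) hπfp
  have hunr : FormallyUnramified π₀ := IsZariskiLocalAtSource.sigmaDesc (P := @FormallyUnramified) hπu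
  have hcomp_e : ∀ i, Etale (pullback.fst f (π i)) := by
    intro i
    have := hπfp i; have := hπu i; have := hrf i; have := hrs i; have := hflat i
    let k : pullback f (r i ≫ π i) ⟶ pullback f (π i) :=
      pullback.lift (pullback.fst _ _) (pullback.snd _ _ ≫ r i)
        (by rw [Category.assoc]; exact pullback.condition)
    have hk : IsPullback k (pullback.snd f (r i ≫ π i)) (pullback.snd f (π i)) (r i) := by
      refine IsPullback.of_right (h₁₂ := pullback.fst f (π i)) (v₁₃ := f) (h₂₂ := π i) ?_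
        (pullback.lift_snd _ _ _) (IsPullback.of_hasPullback f (π i))
      rw [show k ≫ pullback.fst f (π i) = _ from pullback.lift_fst _ _ _]
      exact IsPullback.of_hasPullback f (r i ≫ π i)
    have : Flat k := MorphismProperty.of_isPullback hk.flip inferInstance
    have : Surjective k := MorphismProperty.of_isPullback hk.flip inferInstance
    have : Flat (k ≫ pullback.fst f (π i)) := by
      rw [show k ≫ pullback.fst f (π i) = pullback.fst f (r i ≫ π i) from pullback.lift_fst _ _ _,
        ← hcomp i]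
      infer_instance
    have := Groth.FlatMor2.flat_of_comp_surjective k (pullback.fst f (π i))
    have : FormallyUnramified (pullback.fst f (π i)) := MorphismProperty.pullback_fst _ _ (hπu i)
    exact Etale.of_formallyUnramified_of_flat _
  have het : Etale (pullback.fst f π₀) :=
    etale_fst_of_cover f π₀ 𝒰 fun i => by rw [hι]; exact hcomp_e i
  -- the projections of the relation
  have hR : Etale (pullback.fst π₀ π₀) := by
    have : Flat (pullback.fst π₀ π₀) := by
      refine IsZariskiLocalAtTarget.of_openCover (P := @Flat) 𝒰 fun i => ?_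
      have := hrf i; have := hrs i
      have e : IsPullback (pullback.snd (pullback.fst π₀ π₀) (𝒰.f i))
          (pullback.fst (pullback.fst π₀ π₀) (𝒰.f i) ≫ pullback.snd π₀ π₀) (𝒰.f i ≫ π₀) π₀ :=
        (IsPullback.of_hasPullback (pullback.fst π₀ π₀) (𝒰.f i)).flip.paste_vert
          (IsPullback.of_hasPullback π₀ π₀)
      show Flat (pullback.snd (pullback.fst π₀ π₀) (𝒰.f i))
      rw [← e.isoPullback_hom_fst]
      suffices Flat (pullback.fst (𝒰.f i ≫ π₀) π₀) from inferInstance
      rw [hι]
      -- pull back along the cover `U i ⟶ Q i`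
      let k : pullback (r i ≫ π i) π₀ ⟶ pullback (π i) π₀ :=
        pullback.lift (pullback.fst _ _ ≫ r i) (pullback.snd _ _)
          (by rw [Category.assoc]; exact pullback.condition)
      have hk : IsPullback (pullback.fst (r i ≫ π i) π₀) k (r i) (pullback.fst (π i) π₀) := by
        refine IsPullback.of_bot ?_ (pullback.lift_fst _ _ _).symm
          (IsPullback.of_hasPullback (π i) π₀)
        rw [show k ≫ pullback.snd (π i) π₀ = _ from pullback.lift_snd _ _ _]
        exact IsPullback.of_hasPullback (r i ≫ π i) π₀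
      have : Flat k := MorphismProperty.of_isPullback hk inferInstance
      have : Surjective k := MorphismProperty.of_isPullback hk inferInstance
      have hfl : Flat (pullback.fst (r i ≫ π i) π₀) := by
        rw [← hcomp i]
        exact flat_fst_of_factor f π₀ (a i)
      have hkf : Flat (k ≫ pullback.fst (π i) π₀) := by
        rw [← hk.w]
        exact MorphismProperty.comp_mem @Flat _ _ hfl (hrf i)
      exact @Groth.FlatMor2.flat_of_comp_surjective _ _ _ k (pullback.fst (π i) π₀) _ _ hkf
    have : FormallyUnramified (pullback.fst π₀ π₀) := MorphismProperty.pullback_fst _ _ hunr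
    exact Etale.of_formallyUnramified_of_flat _
  obtain ⟨X', p, h, hph, hm, hlft, hpe, hps⟩ := exists_image π₀
  -- the map from `X`
  have hWs : Surjective (pullback.fst f π₀) := ⟨fun x => by
    obtain ⟨z, hz⟩ := hy ⟨f x, x, rfl⟩
    obtain ⟨w, hw, -⟩ := Scheme.Pullback.exists_preimage_pullback (f := f) (g := π₀) x
      (𝒰.f ⟨f x, x, rfl⟩ z) (by rw [← Scheme.Hom.comp_apply, hι]; exact hz.symm)
    exact ⟨w, hw⟩⟩
  obtain ⟨g, hg⟩ := exists_desc (pullback.fst f π₀) f (pullback.snd f π₀ ≫ p) h
    (by rw [Category.assoc, hph, pullback.condition])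
  have hgc : pullback.fst f π₀ ≫ g = pullback.snd f π₀ ≫ p := by
    rw [← cancel_mono h, Category.assoc, Category.assoc, hg, hph, pullback.condition]
  have hlfpg : LocallyOfFinitePresentation g := by
    have : LocallyOfFinitePresentation (g ≫ h) := by rw [hg]; infer_instance
    exact Groth.SpectralTopology.lfp_of_comp g h
  have hsf : Flat (pullback.snd f π₀) ∧ Surjective (pullback.snd f π₀) := by
    have key : ∀ i, Flat (pullback.snd f (π i)) ∧ Surjective (pullback.snd f (π i)) := by
      intro i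
      have := hrf i; have := hrs i; have := hflat i
      let k : pullback f (r i ≫ π i) ⟶ pullback f (π i) :=
        pullback.lift (pullback.fst _ _) (pullback.snd _ _ ≫ r i)
          (by rw [Category.assoc]; exact pullback.condition)
      have hk : IsPullback k (pullback.snd f (r i ≫ π i)) (pullback.snd f (π i)) (r i) := by
        refine IsPullback.of_right (h₁₂ := pullback.fst f (π i)) (v₁₃ := f) (h₂₂ := π i) ?_
          (pullback.lift_snd _ _ _) (IsPullback.of_hasPullback f (π i))
        rw [show k ≫ pullback.fst f (π i) = _ from pullback.lift_fst _ _ _]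
        exact IsPullback.of_hasPullback f (r i ≫ π i)
      have : Flat k := MorphismProperty.of_isPullback hk.flip inferInstance
      have : Surjective k := MorphismProperty.of_isPullback hk.flip inferInstance
      have h1 : Flat (pullback.snd f (r i ≫ π i)) := by
        rw [← hcomp i]; exact flat_snd f (a i)
      have h2 : Surjective (pullback.snd f (r i ≫ π i)) := ⟨fun x => by
        obtain ⟨w, -, hw⟩ := Scheme.Pullback.exists_preimage_pullback (f := f) (g := r i ≫ π i)
          (a i x) x (by rw [← Scheme.Hom.comp_apply, hcomp i])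
        exact ⟨w, hw⟩⟩
      have h3 : Flat (k ≫ pullback.snd f (π i)) := by rw [hk.w]; infer_instance
      refine ⟨Groth.FlatMor2.flat_of_comp_surjective k _, ⟨fun z => ?_⟩⟩
      obtain ⟨x, rfl⟩ := (r i).surjective z
      obtain ⟨w, rfl⟩ := (pullback.snd f (r i ≫ π i)).surjective x
      exact ⟨k w, by rw [← Scheme.Hom.comp_apply, hk.w]; rfl⟩
    have e : ∀ i, IsPullback (pullback.fst (pullback.snd f π₀) (𝒰.f i) ≫ pullback.fst f π₀)
        (pullback.snd (pullback.snd f π₀) (𝒰.f i)) f (𝒰.f i ≫ π₀) := fun i =>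
      (IsPullback.of_hasPullback (pullback.snd f π₀) (𝒰.f i)).paste_horiz
        (IsPullback.of_hasPullback f π₀)
    refine ⟨IsZariskiLocalAtTarget.of_openCover (P := @Flat) 𝒰 fun i => ?_,
      IsZariskiLocalAtTarget.of_openCover (P := @Surjective) 𝒰 fun i => ?_⟩
    · show Flat (pullback.snd (pullback.snd f π₀) (𝒰.f i))
      rw [← (e i).isoPullback_hom_snd]
      suffices Flat (pullback.snd f (𝒰.f i ≫ π₀)) from inferInstance
      rw [hι]; exact (key i).1
    · show Surjective (pullback.snd (pullback.snd f π₀) (𝒰.f i))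
      rw [← (e i).isoPullback_hom_snd]
      suffices Surjective (pullback.snd f (𝒰.f i ≫ π₀)) from inferInstance
      rw [hι]; exact (key i).2
  obtain ⟨_, _⟩ := hsf
  have : Flat (pullback.fst f π₀ ≫ g) := by rw [hgc]; infer_instance
  have : Surjective (pullback.fst f π₀ ≫ g) := by rw [hgc]; infer_instance
  exact ⟨X', g, h, Surjective.of_comp (pullback.fst f π₀) g,
    Groth.FlatMor2.flat_of_comp_surjective (pullback.fst f π₀) g, hlfpg, hm, hg⟩

theorem main (f : X ⟶ Y) [LocallyOfFinitePresentation f] :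
    ((∃ (X' : Scheme.{u}) (f' : X ⟶ X') (f'' : X' ⟶ Y),
        Surjective f' ∧ Flat f' ∧ LocallyOfFinitePresentation f' ∧ Mono f'' ∧ f' ≫ f'' = f) ↔
      Flat (pullback.fst f f)) ∧
    (∀ (X₁ X₂ : Scheme.{u}) (g₁ : X ⟶ X₁) (h₁ : X₁ ⟶ Y) (g₂ : X ⟶ X₂) (h₂ : X₂ ⟶ Y),
      Surjective g₁ → Flat g₁ → LocallyOfFinitePresentation g₁ → Mono h₁ → g₁ ≫ h₁ = f →
      Surjective g₂ → Flat g₂ → LocallyOfFinitePresentation g₂ → Mono h₂ → g₂ ≫ h₂ = f →
      ∃ φ : X₁ ≅ X₂, g₁ ≫ φ.hom = g₂ ∧ φ.hom ≫ h₂ = h₁) := by
  refine ⟨⟨?_, fun _ => exists_factorisation f⟩, ?_⟩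
  · rintro ⟨X', f', f'', _, _, _, _, rfl⟩
    have h := IsPullback.of_isLimit (pullbackIsPullbackOfCompMono f' f' f'')
    rw [← h.isoPullback_inv_fst]
    have : Flat (pullback.fst f' f') := inferInstance
    exact MorphismProperty.comp_mem @Flat _ _ inferInstance this
  · intro X₁ X₂ g₁ h₁ g₂ h₂ _ _ _ _ e₁ _ _ _ _ e₂
    obtain ⟨φ, hφ⟩ := exists_desc g₁ h₁ g₂ h₂ (e₁.trans e₂.symm)
    obtain ⟨ψ, hψ⟩ := exists_desc g₂ h₂ g₁ h₁ (e₂.trans e₁.symm)
    refine ⟨⟨φ, ψ, ?_, ?_⟩, ?_, hφ⟩
    · rw [← cancel_mono h₁, Category.assoc, hψ, hφ, Category.id_comp]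
    · rw [← cancel_mono h₂, Category.assoc, hφ, hψ, Category.id_comp]
    · rw [← cancel_mono h₂, Category.assoc, hφ, e₁, e₂]

end Groth.Calg4.MonoFactor
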