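import Groth.Agent.Calg4.MonoFactor.FibreCut
import Groth.Agent.AlgSp2.FlatFibreScheme

/-!
A slice through every point of the image of a morphism with flat self-fibre product.
-/

set_option autoImplicit false
set_option linter.style.haveILetI false
set_option backward.isDefEq.respectTransparency.types false

universe u

open CategoryTheory CategoryTheory.Limits AlgebraicGeometry TopologicalSpace TensorProduct

namespace Groth.Calg4.MonoFactor

variable {X Y U : Scheme.{u}} (f : X ⟶ Y) (u : U ⟶ X)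

theorem flat_snd_self [Flat (pullback.fst f f)] : Flat (pullback.snd f f) := by
  rw [← pullbackSymmetry_hom_comp_fst f f]
  infer_instance

/-- The comparison from `X ×_Y U` to `X ×_Y X`. -/
noncomputable def toSelf : pullback f (u ≫ f) ⟶ pullback f f :=
  pullback.lift (pullback.fst _ _) (pullback.snd _ _ ≫ u) (by rw [Category.assoc, pullback.condition])

theorem isPullback_toSelf :
    IsPullback (toSelf f u) (pullback.snd f (u ≫ f)) (pullback.snd f f) u := by
  refine IsPullback.of_right (h₁₂ := pullback.fst f f) (v₁₃ := f) (h₂₂ := f) ?_ (pullback.lift_snd _ _ _)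
    (IsPullback.of_hasPullback f f)
  rw [toSelf, pullback.lift_fst]
  exact IsPullback.of_hasPullback f (u ≫ f)

theorem flat_snd [Flat (pullback.fst f f)] : Flat (pullback.snd f (u ≫ f)) := by
  have := flat_snd_self f
  exact MorphismProperty.of_isPullback (isPullback_toSelf f u) this

/-- Flatness of `X ×_Y U ⟶ X` only depends on the point of `U`. -/
theorem flat_stalk_of_snd_eq [Flat (pullback.fst f f)] {w w' : ↑(pullback f (u ≫ f))}
    (e : pullback.snd f (u ≫ f) w = pullback.snd f (u ≫ f) w')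
    (h : ((pullback.fst f (u ≫ f)).stalkMap w).hom.Flat) :
    ((pullback.fst f (u ≫ f)).stalkMap w').hom.Flat := by
  let q := pullback.fst f (u ≫ f)
  let es := pullback.snd f (u ≫ f)
  let a := pullback.fst es es
  let b := pullback.snd es es
  obtain ⟨t, hta, htb⟩ := Scheme.Pullback.exists_preimage_pullback (f := es) (g := es) w w' e
  have hc0 : (a ≫ q) ≫ f = (b ≫ q) ≫ f := by
    simp only [q, a, b, Category.assoc, pullback.condition]
    simp only [← Category.assoc]
    rw [pullback.condition (f := es) (g := es)]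
  let c := pullback.lift (a ≫ q) (b ≫ q) hc0
  have hq : es ≫ u ≫ f = q ≫ f := pullback.condition.symm
  have H1 : IsPullback c a (pullback.fst f f) q := by
    refine IsPullback.of_right (h₁₂ := pullback.snd f f) (v₁₃ := f) (h₂₂ := f) ?_
      (pullback.lift_fst _ _ _) (IsPullback.of_hasPullback f f).flip
    rw [show c ≫ pullback.snd f f = b ≫ q from pullback.lift_snd _ _ _, ← hq]
    exact (IsPullback.of_hasPullback es es).flip.paste_horiz (IsPullback.of_hasPullback f (u ≫ f))
  have H2 : IsPullback c b (pullback.snd f f) q := by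
    refine IsPullback.of_right (h₁₂ := pullback.fst f f) (v₁₃ := f) (h₂₂ := f) ?_
      (pullback.lift_snd _ _ _) (IsPullback.of_hasPullback f f)
    rw [show c ≫ pullback.fst f f = a ≫ q from pullback.lift_fst _ _ _, ← hq]
    exact (IsPullback.of_hasPullback es es).paste_horiz (IsPullback.of_hasPullback f (u ≫ f))
  have hc : (c.stalkMap t).hom.Flat := Groth.Misc13.FlatBC.flat_stalkMap_baseChange H1 t
    (by rw [show a t = w from hta]; exact h)
  have := flat_snd_self f
  have hb : (b.stalkMap t).hom.Flat :=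
    Groth.Misc13.FlatBC.flat_stalkMap_baseChange H2.flip t (Flat.stalkMap _ _)
  have hcs : ((c ≫ pullback.snd f f).stalkMap t).hom.Flat :=
    Groth.AlgSp2.FlatFib.flat_at_comp _ _ _ hc (Flat.stalkMap _ _)
  rw [H2.w] at hcs
  have := Groth.AlgSp2.FlatFib.flat_at_of_comp b q t hb hcs
  rwa [show b t = w' from htb] at this

/-- Affine charts of a fibre product over an affine open. -/
theorem isPullback_specTensor {B A A' : Type u} [CommRing B] [CommRing A] [CommRing A'] [Algebra B A]
    [Algebra B A'] (i : Spec (CommRingCat.of B) ⟶ Y) [Mono i] :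
    IsPullback (Spec.map (CommRingCat.ofHom (algebraMap A (A ⊗[B] A'))))
      (Spec.map (CommRingCat.ofHom (Algebra.TensorProduct.includeRight : A' →ₐ[B] A ⊗[B] A').toRingHom))
      (Spec.map (CommRingCat.ofHom (algebraMap B A)) ≫ i)
      (Spec.map (CommRingCat.ofHom (algebraMap B A')) ≫ i) := by
  have h := IsPullback.of_isLimit (pullbackIsPullbackOfCompMono
    (Spec.map (CommRingCat.ofHom (algebraMap B A))) (Spec.map (CommRingCat.ofHom (algebraMap B A'))) i)
  exact h.of_iso (pullbackSpecIso B A A') (Iso.refl _) (Iso.refl _) (Iso.refl _)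
    ((Category.comp_id _).trans (pullbackSpecIso_hom_fst' B A A').symm)
    ((Category.comp_id _).trans (pullbackSpecIso_hom_snd B A A').symm) (by simp) (by simp)

variable [LocallyOfFinitePresentation f] [Flat (pullback.fst f f)]

/-- Through every point of the image there is a slice, quasi-finite there, whose self-fibre product
with `X` is flat over `X`. -/
theorem exists_slice (y : Y) (hy : y ∈ Set.range f) :
    ∃ (U : Scheme.{u}) (u : U ⟶ X) (v : U), LocallyOfFinitePresentation (u ≫ f) ∧
      Flat (pullback.fst f (u ≫ f)) ∧ f (u v) = y ∧ (u ≫ f).QuasiFiniteAt v := by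
  obtain ⟨x₀, rfl⟩ := hy
  obtain ⟨_, ⟨V : Y.Opens, hV, rfl⟩, hyV, -⟩ :=
    Y.isBasis_affineOpens.exists_subset_of_mem_open (Set.mem_univ (f x₀)) isOpen_univ
  obtain ⟨_, ⟨W : X.Opens, hW, rfl⟩, hxW, hWV⟩ := X.isBasis_affineOpens.exists_subset_of_mem_open
    (show x₀ ∈ f ⁻¹ᵁ V from hyV) (f ⁻¹ᵁ V).2
  let B := Γ(Y, V)
  let A := Γ(X, W)
  let φ : B ⟶ A := f.appLE V W hWV
  have hfp : φ.hom.FinitePresentation := f.finitePresentation_appLE hV hW hWV
  algebraize [φ.hom]
  have hφ : φ = CommRingCat.ofHom (algebraMap B A) := rfl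
  have hWf : hW.fromSpec ≫ f = Spec.map (CommRingCat.ofHom (algebraMap B A)) ≫ hV.fromSpec :=
    (hV.SpecMap_appLE_fromSpec f hW hWV).symm
  -- the chart of `X ×_Y Spec A'`
  have chart : ∀ (A' : Type u) [CommRing A'] [Algebra B A'] (z : Spec (CommRingCat.of A') ⟶ X),
      z ≫ f = Spec.map (CommRingCat.ofHom (algebraMap B A')) ≫ hV.fromSpec →
      ∃ κ : Spec (CommRingCat.of (A ⊗[B] A')) ⟶ pullback f (z ≫ f), IsOpenImmersion κ ∧
        κ ≫ pullback.fst f (z ≫ f) =
          Spec.map (CommRingCat.ofHom (algebraMap A (A ⊗[B] A'))) ≫ hW.fromSpec ∧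
        κ ≫ pullback.snd f (z ≫ f) = Spec.map (CommRingCat.ofHom
          (Algebra.TensorProduct.includeRight : A' →ₐ[B] A ⊗[B] A').toRingHom) := by
    intro A' _ _ z hz
    have h := isPullback_specTensor (A := A) (A' := A') hV.fromSpec
    rw [← hWf, ← hz] at h
    let κ := pullback.lift (f := f) (g := z ≫ f)
      (Spec.map (CommRingCat.ofHom (algebraMap A (A ⊗[B] A'))) ≫ hW.fromSpec) _
      (by rw [Category.assoc]; exact h.w)
    have hsq : IsPullback (Spec.map (CommRingCat.ofHom (algebraMap A (A ⊗[B] A')))) κ hW.fromSpec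
        (pullback.fst f (z ≫ f)) := by
      refine IsPullback.of_bot ?_ (pullback.lift_fst _ _ _).symm (IsPullback.of_hasPullback f (z ≫ f))
      rw [show κ ≫ pullback.snd f (z ≫ f) = _ from pullback.lift_snd _ _ _]
      exact h
    exact ⟨κ, MorphismProperty.of_isPullback hsq inferInstance, pullback.lift_fst _ _ _,
      pullback.lift_snd _ _ _⟩
  have hflatA : Module.Flat A (A ⊗[B] A) := by
    obtain ⟨κ, hκ, h1, -⟩ := chart A hW.fromSpec hWf
    have : Flat (pullback.fst f (hW.fromSpec ≫ f)) := by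
      have h2 : toSelf f hW.fromSpec ≫ pullback.fst f f = pullback.fst f (hW.fromSpec ≫ f) :=
        pullback.lift_fst _ _ _
      have : Flat (toSelf f hW.fromSpec) :=
        MorphismProperty.of_isPullback (isPullback_toSelf f hW.fromSpec).flip inferInstance
      rw [← h2]; infer_instance
    have h3 : Flat (Spec.map (CommRingCat.ofHom (algebraMap A (A ⊗[B] A))) ≫ hW.fromSpec) := by
      rw [← h1]; infer_instance
    have h4 : Flat (Spec.map (CommRingCat.ofHom (algebraMap A (A ⊗[B] A)))) := by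
      rw [Flat.iff_flat_stalkMap]
      intro p
      have h5 := Flat.stalkMap (Spec.map (CommRingCat.ofHom (algebraMap A (A ⊗[B] A))) ≫ hW.fromSpec) p
      rw [Scheme.Hom.stalkMap_comp] at h5
      exact (RingHom.Flat.respectsIso.cancel_left_isIso _ _).mp h5
    exact RingHom.flat_algebraMap_iff.mp (Flat.SpecMap_iff.mp h4)
  obtain ⟨hs, P, hPp, hPy, hPqf, hreg⟩ := exists_cut (A := A) (hV.primeIdealOf ⟨f x₀, hyV⟩)
    ⟨hW.primeIdealOf ⟨x₀, hxW⟩, IsAffineOpen.comap_primeIdealOf_appLE V hV W hW hWV hxW⟩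
  let I := Ideal.ofList hs
  let A' := A ⧸ I
  let q : Ideal A := P.comap (Ideal.Quotient.mk I)
  have : q.IsPrime := Ideal.IsPrime.comap _
  obtain ⟨e, he, hpt⟩ := exists_flat_away (B := B) q hs
    (fun a ha => by
      show Ideal.Quotient.mk I a ∈ P
      rw [Ideal.Quotient.eq_zero_iff_mem.mpr (show a ∈ I from Ideal.subset_span ha)]
      exact zero_mem _)
    ((show ∀ (p₁ p₂ : Ideal B) (_ : p₁ = p₂) [p₁.IsPrime] [p₂.IsPrime],
        RingTheory.Sequence.IsWeaklyRegular (p₂.Fiber A)
          (hs.map (Algebra.TensorProduct.includeRight : A →ₐ[B] p₂.Fiber A)) →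
        RingTheory.Sequence.IsWeaklyRegular (p₁.Fiber A)
          (hs.map (Algebra.TensorProduct.includeRight : A →ₐ[B] p₁.Fiber A)) by
      rintro _ _ rfl _ _ h; exact h) _ _ hPy hreg)
  obtain ⟨w₀, hw₀, hew₀, hw₀P⟩ := hpt P rfl
  let z : Spec (CommRingCat.of A') ⟶ X :=
    Spec.map (CommRingCat.ofHom (Ideal.Quotient.mk I)) ≫ hW.fromSpec
  have hz : z ≫ f = Spec.map (CommRingCat.ofHom (algebraMap B A')) ≫ hV.fromSpec := by
    rw [Category.assoc, hWf, ← Spec.map_comp_assoc]
    rfl
  obtain ⟨κ, hκ, hκ1, hκ2⟩ := chart A' z hz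
  let Z := Spec (CommRingCat.of A')
  let v : Z := ⟨P, hPp⟩
  have : LocallyOfFinitePresentation (z ≫ f) := by
    rw [hz]
    have : (algebraMap B A').FinitePresentation := RingHom.finitePresentation_algebraMap.mpr
      (Algebra.FinitePresentation.quotient (Submodule.fg_span (List.finite_toSet hs)))
    have : LocallyOfFinitePresentation (Spec.map (CommRingCat.ofHom (algebraMap B A'))) :=
      (LocallyOfFinitePresentation.SpecMap_iff _).mpr this
    infer_instance
  let qq := pullback.fst f (z ≫ f)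
  let Wf : Set ↑(pullback f (z ≫ f)) := {w | (qq.stalkMap w).hom.Flat}
  have hWf_open : IsOpen Wf := by
    have : IsOpen {w | ((qq.stalkMap w).hom.Flat)} := by
      have h1 := Groth.FlatMor2.FibCrit.isOpen_structureSheaf qq (𝟙 X)
      have e1 : {w | ((qq.stalkMap w).hom.Flat)} =
          {w | ((𝟙 X : X ⟶ X).stalkMap (qq w)).hom.Flat ∧ (qq.stalkMap w).hom.Flat} :=
        Set.ext fun w => ⟨fun h => ⟨Flat.stalkMap _ _, h⟩, And.right⟩
      rw [e1]; exact h1
    exact this
  let ω : ↑(Spec (CommRingCat.of (A ⊗[B] A'))) := ⟨w₀, hw₀⟩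
  have hωW : κ ω ∈ Wf := by
    let Ee := Localization.Away e
    let l := Spec.map (CommRingCat.ofHom (algebraMap (A ⊗[B] A') Ee))
    obtain ⟨ω', hω'⟩ := (PrimeSpectrum.localization_away_comap_range Ee e).ge
      (show ω ∈ PrimeSpectrum.basicOpen e from hew₀)
    have hl : IsOpenImmersion l := IsOpenImmersion.of_isLocalization e
    have h1 : ((l ≫ κ) ≫ qq) = Spec.map (CommRingCat.ofHom (algebraMap A Ee)) ≫ hW.fromSpec := by
      rw [Category.assoc, hκ1, ← Spec.map_comp_assoc, ← CommRingCat.ofHom_comp,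
        ← IsScalarTower.algebraMap_eq]
    have : Flat (Spec.map (CommRingCat.ofHom (algebraMap A Ee))) :=
      Flat.SpecMap_iff.mpr (RingHom.flat_algebraMap_iff.mpr he)
    have : Flat ((l ≫ κ) ≫ qq) := by rw [h1]; infer_instance
    have h2 := Groth.AlgSp2.FlatFib.flat_at_of_comp (l ≫ κ) qq ω' (Flat.stalkMap _ _)
      (Flat.stalkMap _ _)
    rw [show (l ≫ κ) ω' = κ ω from by rw [Scheme.Hom.comp_apply]; exact congrArg κ hω'] at h2
    exact h2
  have hsnd : Flat (pullback.snd f (z ≫ f)) := flat_snd f z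
  let O : Z.Opens := ⟨pullback.snd f (z ≫ f) '' Wf, (pullback.snd f (z ≫ f)).isOpenMap _ hWf_open⟩
  have hvO : v ∈ O := ⟨κ ω, hωW, by
    rw [← Scheme.Hom.comp_apply, hκ2]
    exact PrimeSpectrum.ext hw₀P⟩
  refine ⟨O, O.ι ≫ z, ⟨v, hvO⟩, by rw [Category.assoc]; infer_instance, ?_, ?_, ?_⟩
  · let m : pullback f ((O.ι ≫ z) ≫ f) ⟶ pullback f (z ≫ f) :=
      pullback.lift (pullback.fst _ _) (pullback.snd _ _ ≫ O.ι)
        (by rw [pullback.condition]; simp only [Category.assoc])
    have hm : IsPullback m (pullback.snd f ((O.ι ≫ z) ≫ f)) (pullback.snd f (z ≫ f)) O.ι := by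
      refine IsPullback.of_right (h₁₂ := pullback.fst f (z ≫ f)) (v₁₃ := f) (h₂₂ := z ≫ f) ?_
        (pullback.lift_snd _ _ _) (IsPullback.of_hasPullback f (z ≫ f))
      rw [show m ≫ pullback.fst f (z ≫ f) = _ from pullback.lift_fst _ _ _, ← Category.assoc]
      exact IsPullback.of_hasPullback f ((O.ι ≫ z) ≫ f)
    have : IsOpenImmersion m := MorphismProperty.of_isPullback hm.flip inferInstance
    rw [← show m ≫ qq = pullback.fst f ((O.ι ≫ z) ≫ f) from pullback.lift_fst _ _ _,
      Flat.iff_flat_stalkMap]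
    intro p
    refine Groth.AlgSp2.FlatFib.flat_at_comp m qq p (Flat.stalkMap _ _) ?_
    obtain ⟨w, hw, hws⟩ := (pullback.snd f ((O.ι ≫ z) ≫ f) p).2
    refine flat_stalk_of_snd_eq f z ?_ hw
    rw [hws, ← Scheme.Hom.comp_apply, hm.w]
    rfl
  · show f (z v) = f x₀
    rw [← Scheme.Hom.comp_apply, hz, Scheme.Hom.comp_apply]
    rw [show Spec.map (CommRingCat.ofHom (algebraMap B A')) v = hV.primeIdealOf ⟨f x₀, hyV⟩ from
      PrimeSpectrum.ext (by
        show P.comap (algebraMap B A') = _
        rw [← hPy]; rfl)]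
    exact hV.fromSpec_primeIdealOf _
  · rw [Category.assoc, Scheme.Hom.quasiFiniteAt_comp_iff_of_isOpenImmersion, hz,
      Scheme.Hom.quasiFiniteAt_comp_iff]
    let := Localization.AtPrime.algebraOfLiesOver (P.under B) P
    refine (RingHom.QuasiFinite.respectsIso.arrow_mk_iso_iff
      (Scheme.arrowStalkMapSpecIso (CommRingCat.ofHom (algebraMap B A')) v)).mpr ?_
    show (algebraMap (Localization.AtPrime (P.under B)) (Localization.AtPrime P)).QuasiFinite
    rw [RingHom.quasiFinite_algebraMap]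
    exact .of_restrictScalars B _ _

end Groth.Calg4.MonoFactor
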